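import Groth.Agent.SeesawX.Open
import Groth.Agent.CohPullX.Semicont
import Groth.Agent.GeomField.GlobalFunctions
import Groth.Agent.H23.PicMul

/-!
# The locus of trivial fibres is closed when the fibres are geometrically integral
-/

set_option autoImplicit false
set_option linter.style.haveILetI false
set_option linter.unusedSectionVars false
set_option backward.isDefEq.respectTransparency false
set_option backward.isDefEq.respectTransparency.types false
set_option maxHeartbeats 1000000

universe u

open CategoryTheory AlgebraicGeometry TopologicalSpace Opposite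
open Groth.Agent.H23.PicMul

namespace Groth.Agent.SeesawX

open Groth.Agent

/-- Degree zero cohomology is global sections. -/
noncomputable def HHzeroEquiv {X : Scheme.{u}} (M : X.Modules) : Coh.HH X M 0 ≃+ Γ(M, ⊤) :=
  Sheaf.H.equiv₀ (Coh.toAb M) Limits.isTerminalTop

theorem subsingleton_sections_iff {X : Scheme.{u}} (M : X.Modules) :
    Subsingleton Γ(M, ⊤) ↔ Subsingleton (Coh.HH X M 0) :=
  ⟨fun _ => (HHzeroEquiv M).toEquiv.subsingleton, fun _ => (HHzeroEquiv M).toEquiv.symm.subsingleton⟩

variable {X S : Scheme.{u}} (f : X ⟶ S) [IsProper f] [Flat f] [LocallyOfFinitePresentation f] [GeometricallyIntegral f]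

/-- The trivial locus is closed. -/
theorem isClosed_fibre_trivial {L : X.Modules} (hL : PicF.IsInvertible L) :
    IsClosed {s : S | Nonempty ((Scheme.Modules.pullback (f.fiberι s)).obj L ≅ Coh.structureModule (f.fiber s))} := by
  haveI : HasInjectiveResolutions X.Modules := KFlatLib.hasInjectiveResolutions_modules
  obtain ⟨⟨c, hcc⟩, hc⟩ := exists_inv (X := X) ⟨PicF.cl L, L, rfl, hL⟩
  obtain ⟨M, rfl, hM⟩ := hcc
  replace hc : PicF.cl L * PicF.cl M = 1 := (mul_comm _ _).trans hc
  have hinv : ∀ {N : X.Modules}, PicF.IsInvertible N → CohB1.IsFP N ∧ FlatMod.IsFlatOver f N := fun {N} hN =>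
    ⟨QCoh.isFP_of_isFinLocFree fun x => ((isFinLocFreeOfRank_one hN) x).elim fun U h => ⟨U, 1, h⟩,
      H23.Seesaw.isFlatOver_of_isInvertible f hN⟩
  rw [← isOpen_compl_iff, isOpen_iff_forall_mem_open]
  intro y hy
  have hzero : ∀ {N : X.Modules}, PicF.IsInvertible N → ∀ z,
      Subsingleton (CohIII.fiberH f N z 0) →
        ¬ Nonempty ((Scheme.Modules.pullback (f.fiberι z)).obj N ≅ Coh.structureModule (f.fiber z)) := by
    intro N hN z h ⟨e⟩
    haveI : IsIntegral (f.fiber z) :=
      GeometricallyIntegral.geometrically_isIntegral _ _ _ (IsPullback.of_hasPullback f (S.fromSpecResidueField z))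
    haveI h0 : Subsingleton Γ((Scheme.Modules.pullback (f.fiberι z)).obj N, ⊤) := (subsingleton_sections_iff _).2 h
    haveI : Subsingleton Γ(f.fiber z, ⊤) :=
      ⟨fun a b => by
        have hb : Function.Bijective (e.hom.app ⊤) :=
          (ConcreteCategory.isIso_iff_bijective _).1 (Scheme.Modules.Hom.isIso_iff_isIso_app.1 inferInstance ⊤)
        obtain ⟨a', ha⟩ := hb.2 a
        obtain ⟨b', hb'⟩ := hb.2 b
        exact ha.symm.trans ((congrArg _ (Subsingleton.elim a' b')).trans hb')⟩
    exact false_of_nontrivial_of_subsingleton Γ(f.fiber z, ⊤)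
  have hcases : Subsingleton (CohIII.fiberH f L y 0) ∨ Subsingleton (CohIII.fiberH f M y 0) := by
    by_contra hcon
    push_neg at hcon
    apply hy
    haveI : IsIntegral (f.fiber y) :=
      GeometricallyIntegral.geometrically_isIntegral _ _ _ (IsPullback.of_hasPullback f (S.fromSpecResidueField y))
    let Ly := (Scheme.Modules.pullback (f.fiberι y)).obj L
    let My := (Scheme.Modules.pullback (f.fiberι y)).obj M
    have φ : CohB1.tensorMod Ly My ≅ Coh.structureModule (f.fiber y) := (cl_eq_iff.1 (by
      rw [cl_tensor]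
      show pullHom (f.fiberι y) (PicF.cl L) * pullHom (f.fiberι y) (PicF.cl M) = 1
      rw [← map_mul, hc, map_one]) : Nonempty _).some
    obtain ⟨s, hs⟩ : ∃ s : Γ(Ly, ⊤), s ≠ 0 := by
      by_contra h
      push_neg at h
      exact not_subsingleton_iff_nontrivial.2 hcon.1 ((subsingleton_sections_iff Ly).1 ⟨fun a b => (h a).trans (h b).symm⟩)
    obtain ⟨t, ht⟩ : ∃ t : Γ(My, ⊤), t ≠ 0 := by
      by_contra h
      push_neg at h
      exact not_subsingleton_iff_nontrivial.2 hcon.2 ((subsingleton_sections_iff My).1 ⟨fun a b => (h a).trans (h b).symm⟩)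
    have hcf : Function.Bijective (f.fiberToSpecResidueField y).appTop :=
      H23.RigidApply.constFibres_of_geometricallyIntegral f y
    refine triv_of_pair (PicClLib.isInvertible_pullback _ hL) (PicClLib.isInvertible_pullback _ hM) φ ?_ hs ht
    intro c hc0
    obtain ⟨a, rfl⟩ := hcf.2 c
    refine IsUnit.map _ ?_
    let e := (Scheme.ΓSpecIso (S.residueField y)).commRingCatIsoToRingEquiv
    have : IsUnit (e a) := isUnit_iff_ne_zero.2 fun h => hc0 (by rw [e.map_eq_zero_iff.1 h, map_zero])
    simpa using this.map e.symm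
  rcases hcases with h | h
  · obtain ⟨U, hU, hU'⟩ := CohPullX.exists_subsingleton_fiberH_nhd (hinv hL).1 (hinv hL).2 y 0 h
    exact ⟨U, fun z hz => hzero hL z (hU' z hz), U.isOpen, hU⟩
  · obtain ⟨U, hU, hU'⟩ := CohPullX.exists_subsingleton_fiberH_nhd (hinv hM).1 (hinv hM).2 y 0 h
    refine ⟨U, fun z hz htriv => hzero hM z (hU' z hz) (cl_eq_iff.1 ?_), U.isOpen, hU⟩
    have h1 : pullHom (f.fiberι z) (PicF.cl L) = 1 := cl_eq_iff.2 htriv
    have h2 := congrArg (pullHom (f.fiberι z)) hc
    rw [map_mul, h1, one_mul, map_one] at h2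
    exact h2

end Groth.Agent.SeesawX
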