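import Groth.Agent.SeesawX.PicPnMon
import Groth.Agent.InvUfdLib.Trivial
import Groth.Agent.H23.PrincipalGlobal
import Groth.Agent.PicClLib.Basic
import Groth.Agent.PnCoh.Cech
import Groth.Agent.InvX.GenLocusPull
import Mathlib.RingTheory.Polynomial.UniqueFactorization

/-!
# Invertible modules on projective space over a factorial ring
-/

set_option autoImplicit false
set_option linter.style.haveILetI false
set_option linter.unusedSectionVars false
set_option backward.isDefEq.respectTransparency false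
set_option backward.isDefEq.respectTransparency.types false
set_option maxHeartbeats 1600000

universe u

open CategoryTheory AlgebraicGeometry TopologicalSpace Opposite HomogeneousLocalization

noncomputable section

namespace Groth.Agent.SeesawX.PicPn

open Groth.Agent Groth.Agent.AModX Groth.Agent.InvX

variable {n : ℕ} {R : Type u} [CommRing R]

local notation "𝒜" => CohB1.polyGrading n R

/-- The index set of the coordinates of a chart. -/
abbrev Idx (i : Fin (n + 1)) : Type u := ULift.{u} {j : Fin (n + 1) // j ≠ i}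

/-- Setting `X_i = 1`. -/
def setOne (i : Fin (n + 1)) : MvPolynomial (Fin (n + 1)) R →+* MvPolynomial (Idx i) R :=
  (MvPolynomial.aeval fun j => if h : j = i then 1 else MvPolynomial.X (ULift.up ⟨j, h⟩)).toRingHom

variable (R) in
/-- The chart coordinates. -/
def fromChart (i : Fin (n + 1)) : MvPolynomial (Idx i) R →+* Away 𝒜 (MvPolynomial.X i : MvPolynomial (Fin (n + 1)) R) :=
  MvPolynomial.eval₂Hom ((HomogeneousLocalization.fromZeroRingHom 𝒜 _).comp (algebraMap R (𝒜 0)))
    fun j => Away.mk 𝒜 (MvPolynomial.isHomogeneous_X R i) 1 (MvPolynomial.X j.down.1)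
      (by rw [one_smul]; exact MvPolynomial.isHomogeneous_X R j.down.1)

theorem fromChart_val (i : Fin (n + 1)) (p : MvPolynomial (Idx i) R) :
    ((fromChart R i p).val) = MvPolynomial.eval₂ ((algebraMap (MvPolynomial (Fin (n + 1)) R)
      (Localization (Submonoid.powers (MvPolynomial.X i : MvPolynomial (Fin (n + 1)) R)))).comp MvPolynomial.C)
      (fun j => Localization.mk (MvPolynomial.X j.down.1)
        (⟨MvPolynomial.X i ^ 1, 1, rfl⟩ : Submonoid.powers (MvPolynomial.X i : MvPolynomial (Fin (n + 1)) R))) p := by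
  let val : Away 𝒜 (MvPolynomial.X i : MvPolynomial (Fin (n + 1)) R) →+* _ :=
    algebraMap _ (Localization (Submonoid.powers (MvPolynomial.X i : MvPolynomial (Fin (n + 1)) R)))
  show val (fromChart R i p) = _
  rw [fromChart, MvPolynomial.coe_eval₂Hom, MvPolynomial.eval₂_comp_left val]
  congr 1

theorem fromChart_bijective (i : Fin (n + 1)) : Function.Bijective (fromChart R i) := by
  let L0 := Localization (Submonoid.powers (MvPolynomial.X i : MvPolynomial (Fin (n + 1)) R))
  let φ : MvPolynomial (Idx i) R →+* L0 := MvPolynomial.eval₂Hom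
    ((algebraMap (MvPolynomial (Fin (n + 1)) R) L0).comp MvPolynomial.C)
    (fun j => Localization.mk (MvPolynomial.X j.down.1) (⟨MvPolynomial.X i ^ 1, 1, rfl⟩ : Submonoid.powers (MvPolynomial.X i : MvPolynomial (Fin (n + 1)) R)))
  have hu : IsUnit (setOne i (MvPolynomial.X i : MvPolynomial (Fin (n + 1)) R)) := by simp [setOne]
  let L : L0 →+* MvPolynomial (Idx i) R := IsLocalization.Away.lift (MvPolynomial.X i) hu
  have hL : ∀ x, L (algebraMap _ L0 x) = setOne i x := fun x => IsLocalization.Away.lift_eq _ _ _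
  have hmk : ∀ (j : Fin (n + 1)), Localization.mk (MvPolynomial.X j) (⟨MvPolynomial.X i ^ 1, 1, rfl⟩ : Submonoid.powers (MvPolynomial.X i : MvPolynomial (Fin (n + 1)) R)) *
      algebraMap _ L0 (MvPolynomial.X i) = algebraMap _ L0 (MvPolynomial.X j) := fun j => by
    rw [← Localization.mk_one_eq_algebraMap, ← Localization.mk_one_eq_algebraMap, Localization.mk_mul,
      Localization.mk_eq_mk_iff, Localization.r_iff_exists]
    exact ⟨1, by simp [mul_comm]⟩
  have h1 : L.comp φ = RingHom.id _ := by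
    apply MvPolynomial.ringHom_ext
    · intro c
      simp [φ, hL, setOne]
    · rintro ⟨j, hj⟩
      simp only [RingHom.comp_apply, φ, MvPolynomial.eval₂Hom_X', RingHom.id_apply]
      have h := congrArg L (hmk j)
      rw [map_mul, hL, hL] at h
      simpa [setOne, hj] using h
  refine ⟨fun p q hpq => ?_, fun z => ?_⟩
  · have h2 := congrArg (fun y => L (HomogeneousLocalization.val y)) hpq
    simp only [fromChart_val] at h2
    exact (congrArg (· p) (congrArg DFunLike.coe h1)).symm.trans (h2.trans (congrArg (· q) (congrArg DFunLike.coe h1)))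
  · obtain ⟨m, x, hx, rfl⟩ := Away.mk_surjective 𝒜 (MvPolynomial.isHomogeneous_X R i) z
    refine ⟨setOne i x, HomogeneousLocalization.val_injective _ ?_⟩
    rw [fromChart_val, Away.val_mk]
    change φ (setOne i x) = _
    have hhom : ∀ {m : ℕ} {x : MvPolynomial (Fin (n + 1)) R}, x.IsHomogeneous m →
        φ (setOne i x) * (algebraMap (MvPolynomial (Fin (n + 1)) R) L0 (MvPolynomial.X i)) ^ m =
          algebraMap (MvPolynomial (Fin (n + 1)) R) L0 x := by
      intro m x hx
      rw [x.as_sum, map_sum, map_sum, map_sum, Finset.sum_mul]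
      refine Finset.sum_congr rfl fun d hd => ?_
      have hdeg : ∑ j, d j = m := by
        have h0 := hx (MvPolynomial.mem_support_iff.1 hd)
        rw [Finsupp.weight_apply, Finsupp.sum_fintype _ (fun i c => c • (1 : Fin (n + 1) → ℕ) i) (fun j => zero_smul _ _)] at h0
        simpa using h0
      rw [MvPolynomial.monomial_eq, Finsupp.prod_fintype _ _ (fun j => pow_zero _), map_mul, map_mul, map_mul,
        map_prod, map_prod, map_prod, ← hdeg, ← Finset.prod_pow_eq_pow_sum, mul_assoc, ← Finset.prod_mul_distrib]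
      congr 1
      · simp [φ, setOne]
      · refine Finset.prod_congr rfl fun j _ => ?_
        rw [map_pow, map_pow, map_pow, ← mul_pow]
        congr 1
        by_cases hj : j = i
        · subst hj; simp [setOne, φ]
        · simpa [setOne, φ, hj] using hmk j
    have hm := hhom (m := m) (x := x) (by simpa using hx)
    have hu' : IsUnit (algebraMap (MvPolynomial (Fin (n + 1)) R) L0 (MvPolynomial.X i) ^ m) :=
      (IsLocalization.Away.algebraMap_isUnit _).pow m
    refine hu'.mul_left_injective (Eq.trans hm ?_)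
    beta_reduce
    rw [← map_pow, ← Localization.mk_one_eq_algebraMap, ← Localization.mk_one_eq_algebraMap, Localization.mk_mul,
      Localization.mk_eq_mk_iff, Localization.r_iff_exists]
    exact ⟨1, by simp [mul_comm]⟩

variable [IsDomain R]

theorem nonempty_iso_of_isIso {X Y : Scheme.{u}} (e : X ≅ Y)
    (hY : ∀ L : Y.Modules, PicF.IsInvertible L → Nonempty (L ≅ Coh.structureModule Y))
    (L : X.Modules) (hL : PicF.IsInvertible L) : Nonempty (L ≅ Coh.structureModule X) := by
  obtain ⟨a⟩ := hY _ (PicClLib.isInvertible_pullback e.inv hL)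
  obtain ⟨b⟩ := PicClLib.nonempty_pullback_structureModule e.hom
  exact ⟨((Scheme.Modules.pullbackId X).app L).symm ≪≫
    (Scheme.Modules.pullbackCongr e.hom_inv_id.symm).app L ≪≫
    ((Scheme.Modules.pullbackComp e.hom e.inv).app L).symm ≪≫
    (Scheme.Modules.pullback e.hom).mapIso a ≪≫ b⟩

/-- An invertible module has a frame on each chart. -/
theorem exists_chart_frame [UniqueFactorizationMonoid R] (L : (Proj 𝒜).Modules) (hL : PicF.IsInvertible L) (i : Fin (n + 1)) :
    ∃ e : Γ(L, Proj.basicOpen 𝒜 (MvPolynomial.X i)), IsFrame e := by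
  let P : CommRingCat.{u} := CommRingCat.of (MvPolynomial (Idx i) R)
  let U := Proj.basicOpen 𝒜 (MvPolynomial.X i : MvPolynomial (Fin (n + 1)) R)
  let e : (U : Scheme.{u}) ≅ ((⊤ : (Spec P).Opens) : Scheme.{u}) :=
    Proj.basicOpenIsoSpec 𝒜 _ (MvPolynomial.isHomogeneous_X R i) Nat.one_pos ≪≫
      Scheme.Spec.mapIso (RingEquiv.ofBijective _ (fromChart_bijective i)).toCommRingCatIso.op ≪≫ (Spec P).topIso.symm
  obtain ⟨φ⟩ := nonempty_iso_of_isIso e (fun M hM => InvUfdLib.nonempty_iso (R := P) ⊤ M hM) _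
    (PicClLib.isInvertible_pullback U.ι hL)
  exact H23.PrincipalGlobal.exists_frame_of_iso ((Scheme.Modules.restrictFunctorIsoPullback U.ι).app L ≪≫ φ)

/-- `X_i ^ d` is a frame of `O(d)` on its chart. -/
def pow (i : Fin (n + 1)) (d : ℤ) : Γ(Twist.twist 𝒜 d, Proj.basicOpen 𝒜 (MvPolynomial.X i)) :=
  PnCoh.twPow (X_mem_one i) d fun x => x.2

theorem isFrame_pow (i : Fin (n + 1)) (d : ℤ) : IsFrame (pow (R := R) i d) := by
  intro V hV
  have hU : PnCoh.NonVan (MvPolynomial.X i : MvPolynomial (Fin (n + 1)) R) V := fun x => hV x.2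
  exact PnCoh.trivMap_bijective (X_mem_one i) d hU

theorem evT_pow (i : Fin (n + 1)) (d : ℤ) (h : (gen n R : Proj 𝒜) ∈ Proj.basicOpen 𝒜 (MvPolynomial.X i)) :
    evT h (pow i d) = mon 1 (Pi.single i d) := by
  show toFrac n R _ = _
  erw [PnCoh.twPow_apply]
  rw [toFrac_mk, map_pow, map_pow, mon_single, ← zpow_natCast, ← zpow_natCast, ← zpow_sub₀ (algX_ne_zero i)]
  exact congrArg _ (Int.toNat_sub_toNat_neg d)

/-- A constant. -/
def cst (u : R) (W : (Proj 𝒜).Opens) : Γ(Proj 𝒜, W) :=
  (show Twist.O (op W : (Opens (ProjectiveSpectrum.top 𝒜))ᵒᵖ) from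
    ⟨fun x => HomogeneousLocalization.mk ⟨0, ⟨MvPolynomial.C u, MvPolynomial.isHomogeneous_C _ _⟩, ⟨1, SetLike.GradedOne.one_mem⟩,
        fun h => x.1.isPrime.ne_top ((Ideal.eq_top_iff_one _).mpr h)⟩,
      fun x => ⟨W, x.2, 𝟙 _, 0, ⟨MvPolynomial.C u, MvPolynomial.isHomogeneous_C _ _⟩, ⟨1, SetLike.GradedOne.one_mem⟩,
        fun y h => y.1.isPrime.ne_top ((Ideal.eq_top_iff_one _).mpr h), fun _ => rfl⟩⟩)

theorem ev_cst (u : R) {W : (Proj 𝒜).Opens} (h : (gen n R : Proj 𝒜) ∈ W) : ev h (cst u W) = mon u 0 := by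
  show toFrac n R _ = _
  erw [HomogeneousLocalization.val_mk, toFrac_mk]
  simp [mon]

theorem isUnit_cst {u : R} (hu : IsUnit u) {W : (Proj 𝒜).Opens} (h : (gen n R : Proj 𝒜) ∈ W) : IsUnit (cst u W) := by
  obtain ⟨v, hv⟩ := hu.exists_right_inv
  refine IsUnit.of_mul_eq_one (cst v W) (ev_injective h ?_)
  rw [map_mul, ev_cst, ev_cst, mon_mul, map_one, hv, add_zero, mon_zero_one]

theorem gen_mem_inf (i j : Fin (n + 1)) : (gen n R : Proj 𝒜) ∈
    Proj.basicOpen 𝒜 (MvPolynomial.X i) ⊓ Proj.basicOpen 𝒜 (MvPolynomial.X j) :=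
  ⟨gen_mem_basicOpen (MvPolynomial.X_ne_zero i), gen_mem_basicOpen (MvPolynomial.X_ne_zero j)⟩

theorem evT_res_cst_pow {W : (Proj 𝒜).Opens} (i : Fin (n + 1)) (hi : W ≤ Proj.basicOpen 𝒜 (MvPolynomial.X i : MvPolynomial (Fin (n + 1)) R))
    (hw : (gen n R : Proj 𝒜) ∈ W) (u : R) (m : ℤ) :
    evT hw (res (Twist.twist 𝒜 m) hi (cst u (Proj.basicOpen 𝒜 (MvPolynomial.X i : MvPolynomial (Fin (n + 1)) R)) • pow (R := R) i m)) = (mon u (Pi.single i m) : K n R) :=
  (evT_res hi hw (cst u (Proj.basicOpen 𝒜 (MvPolynomial.X i : MvPolynomial (Fin (n + 1)) R)) • pow (R := R) i m)).trans ((evT_smul (R := R) (hi hw) (cst u _) (pow (R := R) i m)).trans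
    ((congrArg₂ (· * ·) (ev_cst u (hi hw)) (evT_pow i m (hi hw))).trans (by rw [mon_mul, mul_one, zero_add])))

theorem twist_ext {d : ℤ} {i : Fin (n + 1)} {W : (Proj 𝒜).Opens} (hi : W ≤ Proj.basicOpen 𝒜 (MvPolynomial.X i))
    (hg : (gen n R : Proj 𝒜) ∈ W) {s t : Γ(Twist.twist 𝒜 d, W)} (h : evT hg s = evT hg t) : s = t := by
  obtain ⟨a, rfl⟩ := (isFrame_pow i d).exists_coord hi s
  obtain ⟨b, rfl⟩ := (isFrame_pow i d).exists_coord hi t
  rw [evT_smul, evT_smul, evT_res, evT_pow] at h
  have hne : (mon 1 (Pi.single i d) : K n R) ≠ 0 := by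
    rw [mon_single]; exact zpow_ne_zero _ (algX_ne_zero i)
  rw [ev_injective hg (mul_right_cancel₀ hne h)]

theorem cover (x : Proj 𝒜) : ∃ i : ULift.{u} (Fin (n + 1)), x ∈ Proj.basicOpen 𝒜 (MvPolynomial.X i.down) := by
  obtain ⟨j, hj⟩ := Opens.mem_iSup.1 ((PnCoh.iSup_mOpen_single (ι := Fin (n + 1)) (R := R)).ge
    (show x ∈ (⊤ : (Proj 𝒜).Opens) from trivial))
  exact ⟨⟨j⟩, hj⟩

/-- Mutually compatible frames give an isomorphism. -/
theorem nonempty_iso_of_frames {X : Scheme.{u}} {M N : X.Modules} {ι : Type u} (U : ι → X.Opens)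
    (hcov : ∀ x, ∃ a, x ∈ U a) (e : ∀ a, Γ(M, U a)) (he : ∀ a, IsFrame (e a))
    (n : ∀ a, Γ(N, U a)) (hn : ∀ a, IsFrame (n a))
    (hc : ∀ (a b : ι) (W : X.Opens) (ha : W ≤ U a) (hb : W ≤ U b) (g : Γ(X, W)),
      res M hb (e b) = g • res M ha (e a) → res N hb (n b) = g • res N ha (n a)) : Nonempty (M ≅ N) := by
  have hc' : ∀ (a b : ι) (W : X.Opens) (ha : W ≤ U a) (hb : W ≤ U b) (g : Γ(X, W)),
      res N hb (n b) = g • res N ha (n a) → res M hb (e b) = g • res M ha (e a) := fun a b W ha hb g h => by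
    obtain ⟨k, hk⟩ := (he a).exists_coord ha (res M hb (e b))
    rw [(hn a).coord_unique ha (h.symm.trans (hc a b W ha hb k hk))]
    exact hk
  let φ : M ⟶ N := ofFrames (U := U) (e := e) (n := n) hcov he hc
  let ψ : N ⟶ M := ofFrames (U := U) (e := n) (n := e) hcov hn hc'
  have h1 : ∀ a, φ.app (U a) (e a) = n a := fun a => ofFrames_app hcov he hc a
  have h2 : ∀ a, ψ.app (U a) (n a) = e a := fun a => ofFrames_app hcov hn hc' a
  refine ⟨⟨φ, ψ, hom_ext_of_frames U hcov e he fun a => ?_, hom_ext_of_frames U hcov n hn fun a => ?_⟩⟩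
  · show ψ.app (U a) (φ.app (U a) (e a)) = e a
    rw [h1, h2]
  · show φ.app (U a) (ψ.app (U a) (n a)) = n a
    rw [h2, h1]

/-- The ratio of two frames is a unit. -/
theorem isUnit_coord {X : Scheme.{u}} {M : X.Modules} {U V : X.Opens} {e : Γ(M, U)} {e' : Γ(M, V)}
    (he : IsFrame e) (he' : IsFrame e') {W : X.Opens} (h : W ≤ U) (h' : W ≤ V) {g : Γ(X, W)}
    (hg : res M h' e' = g • res M h e) : IsUnit g := by
  obtain ⟨k, hk⟩ := he'.exists_coord h' (res M h e)
  refine IsUnit.of_mul_eq_one k (he'.coord_unique h' ?_)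
  rw [one_smul, mul_smul, ← hk, ← hg]

/-- Every invertible module on projective space over a factorial ring is a twisting sheaf. -/
theorem exists_iso_twist [UniqueFactorizationMonoid R] (L : (Proj 𝒜).Modules) (hL : PicF.IsInvertible L) :
    ∃ d : ℤ, Nonempty (L ≅ Twist.twist 𝒜 d) := by
  classical
  choose e he using exists_chart_frame L hL
  let U : Fin (n + 1) → (Proj 𝒜).Opens := fun i => Proj.basicOpen 𝒜 (MvPolynomial.X i)
  have ht : ∀ i, ∃ t : Γ(Proj 𝒜, U i ⊓ U 0), res L inf_le_right (e 0) = t • res L inf_le_left (e i) :=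
    fun i => (he i).exists_coord inf_le_left _
  choose t ht using ht
  have hu := fun i => ev_unit (isUnit_coord (he i) (he 0) inf_le_left inf_le_right (ht i)) (gen_mem_inf i 0)
  choose c r hc hr using hu
  let T : Fin (n + 1) → K n R := fun i => ev (gen_mem_inf i 0) (t i)
  have hT0 : T 0 = 1 := by
    have h : t 0 = 1 := (he 0).coord_unique inf_le_left (by rw [one_smul]; exact (ht 0).symm)
    show ev _ (t 0) = 1
    rw [h, map_one]
  have hg : ∀ i j (W : (Proj 𝒜).Opens) (hi : W ≤ U i) (hj : W ≤ U j) (g : Γ(Proj 𝒜, W)),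
      res L hj (e j) = g • res L hi (e i) → ∀ hw : (gen n R : Proj 𝒜) ∈ W, ev hw g * T j = T i := by
    intro i j W hi hj g hg hw
    let V := W ⊓ U 0
    have hV : (gen n R : Proj 𝒜) ∈ V := ⟨hw, gen_mem_basicOpen (MvPolynomial.X_ne_zero 0)⟩
    have hVi : V ≤ U i ⊓ U 0 := inf_le_inf_right _ hi
    have hVj : V ≤ U j ⊓ U 0 := inf_le_inf_right _ hj
    have h1 := congrArg (res L hVi) (ht i)
    have h2 := congrArg (res L hVj) (ht j)
    have h3 := congrArg (res L (inf_le_left : V ≤ W)) hg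
    rw [res_smul, res_res, res_res] at h1 h2 h3
    have h4 : resR hVi (t i) = resR (inf_le_left : V ≤ W) g * resR hVj (t j) :=
      (he i).coord_unique (hVi.trans inf_le_left) (h1.symm.trans (h2.trans (by rw [h3, ← mul_smul, mul_comm])))
    have h5 := congrArg (ev hV) h4
    rw [map_mul, ev_res, ev_res, ev_res] at h5
    exact h5.symm
  let m : ℤ := if h : ∃ i : Fin (n + 1), i ≠ 0 then - r h.choose else 0
  have hT : ∀ i, ∃ c' : R, IsUnit c' ∧ T i = mon c' (Pi.single (0 : Fin (n + 1)) m + Pi.single i (-m)) := by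
    intro i
    by_cases hi : i = 0
    · subst hi
      refine ⟨1, isUnit_one, ?_⟩
      rw [hT0, ← Pi.single_add, add_neg_cancel, Pi.single_zero, mon_zero_one]
    · have hex : ∃ i : Fin (n + 1), i ≠ 0 := ⟨i, hi⟩
      have hm : m = - r hex.choose := dif_pos hex
      suffices h : r i = r hex.choose by
        exact ⟨c i, hc i, by rw [show T i = _ from hr i, hm, h, neg_neg, add_comm]⟩
      by_cases hij : i = hex.choose
      · rw [← hij]
      let j := hex.choose
      obtain ⟨g, hgd⟩ := (he i).exists_coord (inf_le_left : U i ⊓ U j ≤ U i) (res L inf_le_right (e j))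
      obtain ⟨u, s, hu, hs⟩ := ev_unit (isUnit_coord (he i) (he j) inf_le_left inf_le_right hgd) (gen_mem_inf i j)
      have h := hg i j _ inf_le_left inf_le_right g hgd (gen_mem_inf i j)
      rw [hs, show T i = _ from hr i, show T j = _ from hr j, mon_mul] at h
      have h2 := congr_fun (mon_inj (mul_ne_zero hu.ne_zero (hc j).ne_zero) h) 0
      simp [Pi.single_apply, Ne.symm hi, show (0 : Fin (n + 1)) ≠ j from Ne.symm hex.choose_spec] at h2
      show r i = r j
      linarith
  choose c' hc' hT using hT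
  let ci : Fin (n + 1) → R := fun i => ↑((hc' i).unit⁻¹)
  refine ⟨m, nonempty_iso_of_frames (fun a : ULift.{u} (Fin (n + 1)) => U a.down) cover (fun a => e a.down)
    (fun a => he a.down) (fun a => cst (ci a.down) _ • pow a.down m)
    (fun a => (isFrame_pow a.down m).isUnit_smul (isUnit_cst ((hc' a.down).unit⁻¹).isUnit
      (gen_mem_basicOpen (MvPolynomial.X_ne_zero _)))) ?_⟩
  rintro ⟨i⟩ ⟨j⟩ W hi hj g hgd
  by_cases hW : ∃ x, x ∈ W
  · obtain ⟨x, hx⟩ := hW
    have hw := gen_mem hx
    refine twist_ext hi hw ?_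
    refine (evT_res_cst_pow j hj hw (ci j) m).trans (Eq.trans ?_ (evT_smul hw g _).symm)
    refine Eq.trans ?_ (congrArg (ev hw g * ·) (evT_res_cst_pow i hi hw (ci i) m).symm)
    have h := hg i j W hi hj g hgd hw
    rw [hT i, hT j] at h
    have hne : (mon (c' j) (Pi.single 0 m + Pi.single j (-m)) : K n R) ≠ 0 := fun h0 => by
      have := congrArg (· * (mon (ci j) (Pi.single 0 (-m) + Pi.single j m) : K n R)) h0
      simp only [mon_mul, zero_mul, ci] at this
      rw [IsUnit.mul_val_inv, show ((Pi.single (0 : Fin (n + 1)) m + Pi.single j (-m) +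
        (Pi.single 0 (-m) + Pi.single j m)) : Fin (n + 1) → ℤ) = 0 from by
          funext l; simp [Pi.single_apply]; split_ifs <;> ring, mon_zero_one] at this
      exact one_ne_zero this
    refine mul_left_cancel₀ hne ?_
    rw [show ∀ a : K n R, mon (c' j) (Pi.single 0 m + Pi.single j (-m)) * (ev hw g * a) =
      (ev hw g * mon (c' j) (Pi.single 0 m + Pi.single j (-m))) * a from fun a => by ring, h,
      mon_mul, mon_mul]
    simp only [ci, IsUnit.mul_val_inv]
    exact congrArg _ (by funext l; simp [Pi.single_apply]; split_ifs <;> ring)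
  · refine Subtype.ext (funext fun z => absurd ⟨z.1, z.2⟩ hW)

/-- The degree of a twisting sheaf is well defined. -/
theorem eq_of_iso (hn : 1 ≤ n) {d d' : ℤ} (φ : Twist.twist 𝒜 d ≅ Twist.twist 𝒜 d') : d = d' := by
  let i : Fin (n + 1) := ⟨1, by omega⟩
  have hi : i ≠ 0 := fun h => by simp [i, Fin.ext_iff] at h
  let U : Fin (n + 1) → (Proj 𝒜).Opens := fun i => Proj.basicOpen 𝒜 (MvPolynomial.X i)
  have hv : ∀ l, ∃ u : R, u ≠ 0 ∧ evT (gen_mem_basicOpen (MvPolynomial.X_ne_zero l)) (φ.hom.app (U l) (pow l d)) =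
      mon u (Pi.single l d') := by
    intro l
    have hf := (isFrame_pow (R := R) l d).map_iso φ
    obtain ⟨v, hv⟩ := (isFrame_pow l d').exists_coord (inf_le_left : U l ⊓ U l ≤ U l)
      (res _ inf_le_left (φ.hom.app (U l) (pow l d)))
    obtain ⟨u, s, hu, hs⟩ := ev_unit (isUnit_coord (isFrame_pow l d') hf inf_le_left inf_le_left hv) (gen_mem_inf l l)
    refine ⟨u, hu.ne_zero, ?_⟩
    have h := congrArg (evT (gen_mem_inf l l)) hv
    rw [evT_res, evT_smul, evT_res, evT_pow, hs, mon_mul] at h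
    refine h.trans ?_
    rw [← Pi.single_add, add_neg_cancel, Pi.single_zero, zero_add, mul_one]
  obtain ⟨u0, hu0, h0⟩ := hv 0
  obtain ⟨u1, hu1, h1⟩ := hv i
  obtain ⟨g, hg⟩ := (isFrame_pow (R := R) 0 d).exists_coord (inf_le_left : U 0 ⊓ U i ≤ U 0) (res _ inf_le_right (pow i d))
  have e1 := congrArg (evT (gen_mem_inf 0 i)) hg
  rw [evT_res, evT_smul, evT_res, evT_pow, evT_pow] at e1
  have hg' := congrArg (fun s => evT (gen_mem_inf 0 i) (φ.hom.app (U 0 ⊓ U i) s)) hg
  simp only [Scheme.Modules.Hom.app_smul, app_res] at hg'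
  rw [evT_smul, evT_res, evT_res, h0, h1] at hg'
  have h := congrArg (· * (mon 1 (Pi.single (0 : Fin (n + 1)) d) : K n R)) hg'
  simp only [mul_right_comm _ (mon u0 _), ← e1, mon_mul, mul_one, one_mul] at h
  have h2 := congr_fun (mon_inj hu1 h) i
  simp [Pi.single_eq_of_ne hi] at h2
  omega

end Groth.Agent.SeesawX.PicPn
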