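import Groth.Agent.S3572
import Groth.Agent.S3573
import Groth.Agent.TwistX.Global
import Groth.Agent.ExistEasy.PP.PullSec
import Groth.Agent.ProjUPX.Unique
import Groth.Agent.PnCoh.Finite.TwistTensor
import Groth.Agent.PnCoh.Finite.TwistInv
import Groth.Agent.H23.PicMul
import Groth.Agent.PicClLib.Basic
import Groth.Agent.PnCoh.Chow.RelEmb

/-!
# Projective space over an affine base in the two definitions
-/

set_option autoImplicit false
set_option linter.style.haveILetI false
set_option linter.unusedSectionVars false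
set_option backward.isDefEq.respectTransparency false
set_option backward.isDefEq.respectTransparency.types false
set_option maxHeartbeats 800000

universe u

open CategoryTheory AlgebraicGeometry TopologicalSpace Opposite

noncomputable section

namespace Groth.Agent.SeesawX.PnSpec

open Groth.Agent

variable {X Y Z : Scheme.{u}}

theorem pullSec_eq (f : X ⟶ Y) (M : Y.Modules) (s : ProjUP.Γm M) :
    ProjUP.pullSec f M s = QCoh.pullSec f M (W := ⊤) (V := ⊤) (by exact le_rfl) s :=
  ((ConcreteCategory.congr_hom (((Scheme.Modules.pullback f).obj M).presheaf.map_id _) _).trans rfl).symm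

/-- An isomorphism carrying sections. -/
def Carry {ι : Type*} {M N : X.Modules} (τ : M ≅ N) (s : ι → ProjUP.Γm M) (t : ι → ProjUP.Γm N) : Prop :=
  ∀ i, τ.hom.app ⊤ (s i) = t i

theorem Carry.symm {ι : Type*} {M N : X.Modules} {τ : M ≅ N} {s : ι → ProjUP.Γm M} {t : ι → ProjUP.Γm N}
    (h : Carry τ s t) : Carry τ.symm t s := fun i => by
  have h2 := congrArg (fun φ => Scheme.Modules.Hom.app φ ⊤ (s i)) τ.hom_inv_id
  show τ.inv.app ⊤ (t i) = s i
  rw [← h i]
  exact h2

theorem Carry.trans {ι : Type*} {M N P : X.Modules} {τ : M ≅ N} {σ : N ≅ P} {s : ι → ProjUP.Γm M}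
    {t : ι → ProjUP.Γm N} {r : ι → ProjUP.Γm P} (h : Carry τ s t) (h' : Carry σ t r) : Carry (τ ≪≫ σ) s r :=
  fun i => by
    show σ.hom.app ⊤ (τ.hom.app ⊤ (s i)) = r i
    rw [h i, h' i]

theorem Carry.pull {ι : Type*} (f : X ⟶ Y) {M N : Y.Modules} {τ : M ≅ N} {s : ι → ProjUP.Γm M}
    {t : ι → ProjUP.Γm N} (h : Carry τ s t) :
    Carry ((Scheme.Modules.pullback f).mapIso τ) (fun i => ProjUP.pullSec f M (s i))
      (fun i => ProjUP.pullSec f N (t i)) := fun i => by
  simp only [pullSec_eq]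
  exact (ExistEasy.pullSec_natural f τ.hom (W := ⊤) (V := ⊤) le_rfl (s i)).trans (congrArg _ (h i))

theorem carry_comp {ι : Type*} (f : X ⟶ Y) (g : Y ⟶ Z) (G : Z.Modules) (s : ι → ProjUP.Γm G) :
    Carry ((Scheme.Modules.pullbackComp f g).app G)
      (fun i => ProjUP.pullSec f _ (ProjUP.pullSec g G (s i))) (fun i => ProjUP.pullSec (f ≫ g) G (s i)) := fun i => by
  simp only [pullSec_eq]
  exact ExistEasy.pullSec_comp f g G (W := ⊤) (U := ⊤) (V := ⊤) le_rfl le_rfl (s i)

theorem carry_congr {ι : Type*} {f g : X ⟶ Y} (h : f = g) (G : Y.Modules) (s : ι → ProjUP.Γm G) :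
    Carry ((Scheme.Modules.pullbackCongr h).app G) (fun i => ProjUP.pullSec f G (s i))
      (fun i => ProjUP.pullSec g G (s i)) := fun i => by
  subst h
  rfl

theorem carry_pullbackId {ι : Type*} (G : X.Modules) (s : ι → ProjUP.Γm G) :
    Carry ((Scheme.Modules.pullbackId X).app G) (fun i => ProjUP.pullSec (𝟙 X) G (s i)) s := fun i => by
  have h := unit_conjugateEquiv Adjunction.id (Scheme.Modules.pullbackPushforwardAdjunction (𝟙 X))
    (Scheme.Modules.pullbackId X).hom G
  rw [Scheme.Modules.conjugateEquiv_pullbackId_hom] at h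
  exact (congrArg (fun φ => Scheme.Modules.Hom.app φ ⊤ (s i)) h).symm

theorem isInvertible_one (n : ℕ) {A : Type u} [CommRing A] : PicF.IsInvertible (Twist.twistProjSpace n A 1) :=
  PnCoh.Finite.isInvertible_twist (fun j : ULift.{u} (Fin (n + 1)) => (MvPolynomial.X j.down : MvPolynomial (Fin (n + 1)) A))
    (fun j => ProjPt.X_mem j.down)
    (top_le_iff.1 fun x _ => Opens.mem_iSup.2 (PnCoh.Chow.cov_coord (N := n) A x)) 1

theorem carry_id {ι : Type*} (G : X.Modules) (s : ι → ProjUP.Γm G) :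
    Carry (Iso.refl G) s s := fun _ => rfl

variable (n : ℕ) (R : Type u) [CommRing R]

/-- The integers. -/
abbrev Zu : Type u := ULift.{u} ℤ

/-- The standard projection of `P^n_R` over `Spec R`. -/
abbrev PS : Scheme.{u} := CohB1.ProjSpaceOver n (Spec (CommRingCat.of R))

/-- Its projection to `P^n` over the integers. -/
abbrev toZ : PS n R ⟶ CohB1.ProjSpace n Zu :=
  Limits.pullback.fst (CohB1.ProjSpace.toSpec n Zu) (specULiftZIsTerminal.from (Spec (CommRingCat.of R)))

theorem generatedBy_pullSec {A : Type u} [CommRing A] {T : Scheme.{u}} (f : T ⟶ CohB1.ProjSpace n A) :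
    ProjUP.GeneratedBy ((Scheme.Modules.pullback f).obj (Twist.twistProjSpace n A 1))
      (fun i => ProjUP.pullSec f _ (ProjUP.coord n A i)) :=
  ProjUPX.generatedBy_of_frames _ fun x => by
    obtain ⟨j, hj⟩ := PnCoh.Chow.cov_coord (N := n) A (f x)
    exact ⟨j.down, _, hj, ProjUPX.isFrame_pullG f (ProjPt.X_mem j.down)⟩

theorem generatedBy_coord {A : Type u} [CommRing A] :
    ProjUP.GeneratedBy (Twist.twistProjSpace n A 1) (ProjUP.coord n A) :=
  ProjUPX.generatedBy_of_frames _ fun x => by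
    obtain ⟨j, hj⟩ := PnCoh.Chow.cov_coord (N := n) A x
    exact ⟨j.down, _, hj, ProjUPX.isFrame_sec _ (ProjPt.X_mem j.down)⟩

/-- The two projective spaces agree, compatibly with `O(1)`. -/
theorem exists_iso : ∃ a : PS n R ≅ CohB1.ProjSpace n R,
    a.hom ≫ CohB1.ProjSpace.toSpec n R = CohB1.ProjSpaceOver.toBase n (Spec (CommRingCat.of R)) ∧
      Nonempty ((Scheme.Modules.pullback a.hom).obj (Twist.twistProjSpace n R 1) ≅
        Twist.twistOver n (Spec (CommRingCat.of R)) 1) := by
  obtain ⟨g, hg, τg, hτg⟩ := S3572.result (R := Zu) n (specULiftZIsTerminal.from (CohB1.ProjSpace n R))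
    (Twist.twistProjSpace n R 1)
    (isInvertible_one n)
    (ProjUP.coord n R) (generatedBy_coord n)
  obtain ⟨a, ha, τa, hτa⟩ := S3572.result (R := R) n (CohB1.ProjSpaceOver.toBase n (Spec (CommRingCat.of R)))
    ((Scheme.Modules.pullback (toZ n R)).obj (Twist.twistProjSpace n Zu 1))
    (PicClLib.isInvertible_pullback _
      (isInvertible_one n))
    (fun i => ProjUP.pullSec (toZ n R) _ (ProjUP.coord n Zu i)) (generatedBy_pullSec n _)
  let b : CohB1.ProjSpace n R ⟶ PS n R :=
    Limits.pullback.lift g (CohB1.ProjSpace.toSpec n R) (specULiftZIsTerminal.hom_ext _ _)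
  have hb1 : b ≫ toZ n R = g := Limits.pullback.lift_fst _ _ _
  have hb2 : b ≫ CohB1.ProjSpaceOver.toBase n (Spec (CommRingCat.of R)) = CohB1.ProjSpace.toSpec n R :=
    Limits.pullback.lift_snd _ _ _
  have cg : Carry τg (fun i => ProjUP.pullSec g _ (ProjUP.coord n Zu i)) (ProjUP.coord n R) := hτg
  have ca : Carry τa (fun i => ProjUP.pullSec a _ (ProjUP.coord n R i))
    (fun i => ProjUP.pullSec (toZ n R) _ (ProjUP.coord n Zu i)) := hτa
  have hab : a ≫ b = 𝟙 _ := by
    refine Limits.pullback.hom_ext ?_ ?_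
    · rw [Category.assoc, hb1, Category.id_comp]
      exact S3573.result n _ _ (specULiftZIsTerminal.hom_ext _ _) _
        ((carry_comp a g _ (ProjUP.coord n Zu)).symm.trans ((cg.pull a).trans ca))
    · show (a ≫ b) ≫ CohB1.ProjSpaceOver.toBase n (Spec (CommRingCat.of R)) = 𝟙 _ ≫ _
      rw [Category.assoc, hb2, ha, Category.id_comp]
      rfl
  have hba : b ≫ a = 𝟙 _ := by
    have c1 := (carry_comp b a (Twist.twistProjSpace n R 1) (ProjUP.coord n R)).symm.trans ((ca.pull b).trans
      ((carry_comp b (toZ n R) _ _).trans ((carry_congr hb1 _ _).trans cg)))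
    have c2 := (carry_pullbackId (Twist.twistProjSpace n R 1) (ProjUP.coord n R)).symm
    exact S3573.result n _ _ (by rw [Category.assoc, ha, hb2, Category.id_comp]) _ (c1.trans c2)
  exact ⟨⟨a, b, hab, hba⟩, ha, ⟨τa⟩⟩

end Groth.Agent.SeesawX.PnSpec
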