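import Groth.Agent.SeesawX.PicPn
import Groth.Agent.SeesawX.PnSpec
import Groth.Agent.H28.PnBC
import Groth.Agent.H28.KRRReg

/-!
# Invertible modules on the fibres of projective space
-/

set_option autoImplicit false
set_option linter.style.haveILetI false
set_option linter.unusedSectionVars false
set_option backward.isDefEq.respectTransparency false
set_option backward.isDefEq.respectTransparency.types false
set_option maxHeartbeats 800000

universe u

open CategoryTheory AlgebraicGeometry TopologicalSpace Opposite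
open Groth.Agent.H23.PicMul

namespace Groth.Agent.SeesawX.PnFibre

open Groth.Agent Groth.Agent.H28.KRRReg

variable {n : ℕ}

/-- The class of `O(d)` on the standard projective space. -/
noncomputable def twistHom (n : ℕ) (A : Type u) [CommRing A] :
    Multiplicative ℤ →* PicF.Cl (CohB1.ProjSpace n A) where
  toFun d := PicF.cl (Twist.twistProjSpace n A d.toAdd)
  map_one' := by
    haveI := PnCoh.Finite.isIso_oneHom (fun j : ULift.{u} (Fin (n + 1)) => (MvPolynomial.X j.down : MvPolynomial (Fin (n + 1)) A))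
      (fun j => ProjPt.X_mem j.down)
      (top_le_iff.1 fun x _ => Opens.mem_iSup.2 (PnCoh.Chow.cov_coord (N := n) A x))
    exact cl_eq_iff.2 ⟨(asIso (PnCoh.Finite.oneHom (𝒜 := CohB1.polyGrading n A))).symm⟩
  map_mul' a b := by
    obtain ⟨e⟩ := PnCoh.Finite.twist_tensor_iso (fun j : ULift.{u} (Fin (n + 1)) => (MvPolynomial.X j.down : MvPolynomial (Fin (n + 1)) A))
      (fun j => ProjPt.X_mem j.down)
      (top_le_iff.1 fun x _ => Opens.mem_iSup.2 (PnCoh.Chow.cov_coord (N := n) A x)) a.toAdd b.toAdd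
    exact ((cl_tensor _ _).symm.trans (cl_eq_iff.2 ⟨e⟩)).symm

/-- The class of `O(d)` on projective space over a scheme. -/
noncomputable def twistOverHom (n : ℕ) (T : Scheme.{u}) : Multiplicative ℤ →* PicF.Cl (CohB1.ProjSpaceOver n T) where
  toFun d := PicF.cl (Twist.twistOver n T d.toAdd)
  map_one' := cl_eq_iff.2 twistOver_zero
  map_mul' a b := ((cl_tensor _ _).symm.trans (cl_eq_iff.2 (twistOver_add a.toAdd b.toAdd))).symm

theorem exists_iso_std (R : Type u) [CommRing R] :
    ∃ a : CohB1.ProjSpaceOver n (Spec (CommRingCat.of R)) ≅ CohB1.ProjSpace n R, ∀ d : ℤ,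
      Nonempty ((Scheme.Modules.pullback a.hom).obj (Twist.twistProjSpace n R d) ≅
        Twist.twistOver n (Spec (CommRingCat.of R)) d) := by
  obtain ⟨a, -, ⟨τ⟩⟩ := PnSpec.exists_iso n R
  refine ⟨a, fun d => cl_eq_iff.1 ?_⟩
  have h : (pullHom a.hom).comp (twistHom n R) = twistOverHom n (Spec (CommRingCat.of R)) :=
    MonoidHom.ext_mint (cl_eq_iff.2 ⟨τ⟩)
  exact DFunLike.congr_fun h (Multiplicative.ofAdd d)

theorem exists_iso_twistOver {R : Type u} [CommRing R] [IsDomain R] [UniqueFactorizationMonoid R]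
    {M : (CohB1.ProjSpaceOver n (Spec (CommRingCat.of R))).Modules} (hM : PicF.IsInvertible M) :
    ∃ d : ℤ, Nonempty (M ≅ Twist.twistOver n (Spec (CommRingCat.of R)) d) := by
  obtain ⟨a, ha⟩ := exists_iso_std (n := n) R
  obtain ⟨d, ⟨e⟩⟩ := PicPn.exists_iso_twist (n := n) (R := R) _ (PicClLib.isInvertible_pullback a.inv hM)
  exact ⟨d, ⟨((Scheme.Modules.pullbackId _).app M).symm ≪≫ (Scheme.Modules.pullbackCongr a.hom_inv_id.symm).app M ≪≫
    ((Scheme.Modules.pullbackComp a.hom a.inv).app M).symm ≪≫ (Scheme.Modules.pullback a.hom).mapIso e ≪≫ (ha d).some⟩⟩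

theorem twistOver_inj {R : Type u} [CommRing R] [IsDomain R] (hn : 1 ≤ n) {d d' : ℤ}
    (e : Twist.twistOver n (Spec (CommRingCat.of R)) d ≅ Twist.twistOver n (Spec (CommRingCat.of R)) d') : d = d' := by
  obtain ⟨a, ha⟩ := exists_iso_std (n := n) R
  let G : ∀ m, Twist.twistProjSpace n R m ≅
      (Scheme.Modules.pullback a.inv).obj (Twist.twistOver n (Spec (CommRingCat.of R)) m) := fun m =>
    ((Scheme.Modules.pullbackId _).app _).symm ≪≫ (Scheme.Modules.pullbackCongr a.inv_hom_id.symm).app _ ≪≫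
      ((Scheme.Modules.pullbackComp a.inv a.hom).app _).symm ≪≫ (Scheme.Modules.pullback a.inv).mapIso (ha m).some
  exact PicPn.eq_of_iso (n := n) (R := R) hn (G d ≪≫ (Scheme.Modules.pullback a.inv).mapIso e ≪≫ (G d').symm)

theorem isPullback_ψ {Y Y₁ : Scheme.{u}} (φ : Y₁ ⟶ Y) :
    IsPullback (H28.PnBC.ψ (n := n) φ) (CohB1.ProjSpaceOver.toBase n Y₁) (CohB1.ProjSpaceOver.toBase n Y) φ := by
  refine IsPullback.of_right ?_ (H28.PnBC.ψ_pr φ) (IsPullback.of_hasPullback _ _)
  have hI := IsPullback.of_hasPullback (CohB1.ProjSpace.toSpec n (ULift.{u} ℤ)) (specULiftZIsTerminal.from Y₁)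
  have h1 : φ ≫ specULiftZIsTerminal.from Y = specULiftZIsTerminal.from Y₁ := specULiftZIsTerminal.hom_ext _ _
  have h2 : H28.PnBC.ψ (n := n) φ ≫ Limits.pullback.fst (CohB1.ProjSpace.toSpec n (ULift.{u} ℤ))
      (specULiftZIsTerminal.from Y) = Limits.pullback.fst (CohB1.ProjSpace.toSpec n (ULift.{u} ℤ))
      (specULiftZIsTerminal.from Y₁) := H28.PnBC.ψ_toPn φ
  rw [h1, h2]
  exact hI

/-- The fibre of projective space. -/
noncomputable def fibreIso (S : Scheme.{u}) (s : S) :
    (CohB1.ProjSpaceOver.toBase n S).fiber s ≅ CohB1.ProjSpaceOver n (Spec (S.residueField s)) :=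
  (isPullback_ψ (n := n) (S.fromSpecResidueField s)).isoPullback.symm

theorem fibreIso_hom_ψ (S : Scheme.{u}) (s : S) :
    (fibreIso (n := n) S s).hom ≫ H28.PnBC.ψ (n := n) (S.fromSpecResidueField s) =
      (CohB1.ProjSpaceOver.toBase n S).fiberι s :=
  (isPullback_ψ (n := n) (S.fromSpecResidueField s)).isoPullback_inv_fst

theorem fibre_twistOver (S : Scheme.{u}) (s : S) (d : ℤ) :
    Nonempty ((Scheme.Modules.pullback ((CohB1.ProjSpaceOver.toBase n S).fiberι s)).obj (Twist.twistOver n S d) ≅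
      (Scheme.Modules.pullback (fibreIso (n := n) S s).hom).obj (Twist.twistOver n (Spec (S.residueField s)) d)) := by
  obtain ⟨e⟩ := H28.PnBC.pullback_twistOver (n := n) (S.fromSpecResidueField s) d
  exact ⟨(Scheme.Modules.pullbackCongr (fibreIso_hom_ψ S s).symm).app _ ≪≫
    ((Scheme.Modules.pullbackComp _ _).app _).symm ≪≫ (Scheme.Modules.pullback _).mapIso e⟩

/-- On each fibre, an invertible module is a twist. -/
theorem exists_fibre_twist {S : Scheme.{u}} {M : (CohB1.ProjSpaceOver n S).Modules} (hM : PicF.IsInvertible M) (s : S) :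
    ∃ d : ℤ, Nonempty ((Scheme.Modules.pullback ((CohB1.ProjSpaceOver.toBase n S).fiberι s)).obj M ≅
      (Scheme.Modules.pullback ((CohB1.ProjSpaceOver.toBase n S).fiberι s)).obj (Twist.twistOver n S d)) := by
  obtain ⟨d, ⟨e⟩⟩ := exists_iso_twistOver (n := n) (R := S.residueField s)
    (PicClLib.isInvertible_pullback (H28.PnBC.ψ (n := n) (S.fromSpecResidueField s)) hM)
  obtain ⟨e'⟩ := fibre_twistOver (n := n) S s d
  exact ⟨d, ⟨(Scheme.Modules.pullbackCongr (fibreIso_hom_ψ S s).symm).app _ ≪≫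
    ((Scheme.Modules.pullbackComp _ _).app _).symm ≪≫ (Scheme.Modules.pullback _).mapIso e ≪≫ e'.symm⟩⟩

theorem fibre_twist_inj {S : Scheme.{u}} (hn : 1 ≤ n) (s : S) {d d' : ℤ}
    (e : (Scheme.Modules.pullback ((CohB1.ProjSpaceOver.toBase n S).fiberι s)).obj (Twist.twistOver n S d) ≅
      (Scheme.Modules.pullback ((CohB1.ProjSpaceOver.toBase n S).fiberι s)).obj (Twist.twistOver n S d')) : d = d' := by
  obtain ⟨e₁⟩ := fibre_twistOver (n := n) S s d
  obtain ⟨e₂⟩ := fibre_twistOver (n := n) S s d'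
  let E := Scheme.Modules.pullback (fibreIso (n := n) S s).inv
  let κ' : ∀ M : (CohB1.ProjSpaceOver n (Spec (S.residueField s))).Modules,
      E.obj ((Scheme.Modules.pullback (fibreIso (n := n) S s).hom).obj M) ≅ M := fun M =>
    (Scheme.Modules.pullbackComp _ _).app M ≪≫ (Scheme.Modules.pullbackCongr (fibreIso (n := n) S s).inv_hom_id).app M ≪≫
      (Scheme.Modules.pullbackId _).app M
  exact twistOver_inj (n := n) (R := S.residueField s) hn
    ((κ' _).symm ≪≫ E.mapIso (e₁.symm ≪≫ e ≪≫ e₂) ≪≫ κ' _)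

end Groth.Agent.SeesawX.PnFibre
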