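import Groth.Agent.SeesawX.PnFibre
import Groth.Agent.H28.PnFlat
import Groth.Agent.S0844
import Groth.Agent.H23.RigidApply
import Groth.Agent.Proj16.RelDomain

/-!
# Geometric properties of projective space over a scheme
-/

set_option autoImplicit false
set_option linter.style.haveILetI false
set_option linter.unusedSectionVars false
set_option backward.isDefEq.respectTransparency false
set_option backward.isDefEq.respectTransparency.types false

universe u

open CategoryTheory AlgebraicGeometry TopologicalSpace Opposite

namespace Groth.Agent.SeesawX.PnProps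

open Groth.Agent

variable {n : ℕ}

theorem isIntegral_std (K : Type u) [Field K] : IsIntegral (CohB1.ProjSpace n K) := by
  refine Proj16.isIntegral_proj_of_isDomain _ fun h => ?_
  have hm : (MvPolynomial.X 0 : MvPolynomial (Fin (n + 1)) K) ∈
      (HomogeneousIdeal.irrelevant (CohB1.polyGrading n K)).toIdeal :=
    HomogeneousIdeal.mem_irrelevant_of_mem _ Nat.one_pos (MvPolynomial.isHomogeneous_X K 0)
  rw [h, Ideal.mem_bot] at hm
  exact MvPolynomial.X_ne_zero 0 hm

theorem isIntegral_over_field (K : Type u) [Field K] :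
    IsIntegral (CohB1.ProjSpaceOver n (Spec (CommRingCat.of K))) := by
  obtain ⟨a, -⟩ := PnFibre.exists_iso_std (n := n) K
  haveI := isIntegral_std (n := n) K
  haveI : Nonempty ↥(CohB1.ProjSpaceOver n (Spec (CommRingCat.of K))) :=
    ⟨a.inv (Classical.arbitrary ↥(CohB1.ProjSpace n K))⟩
  exact isIntegral_of_isOpenImmersion a.hom

theorem geometricallyIntegral_toBase (S : Scheme.{u}) :
    GeometricallyIntegral (CohB1.ProjSpaceOver.toBase n S) := by
  refine ⟨fun {K} _ y Y' fst snd h => ?_⟩
  haveI := isIntegral_over_field (n := n) K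
  let e := (PnFibre.isPullback_ψ (n := n) y).isoIsPullback _ _ h
  haveI : Nonempty ↥Y' := ⟨e.hom (Classical.arbitrary ↥(CohB1.ProjSpaceOver n (Spec (CommRingCat.of K))))⟩
  exact isIntegral_of_isOpenImmersion e.inv

theorem constFibres_toBase (S : Scheme.{u}) : H23.RigidApply.ConstFibres (CohB1.ProjSpaceOver.toBase n S) := by
  haveI := geometricallyIntegral_toBase (n := n) S
  haveI := H28.PnFlat.isProper_pr n S
  exact H23.RigidApply.constFibres_of_geometricallyIntegral _

theorem subsingleton_H1_over_field (K : Type u) [Field K] :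
    Subsingleton (Coh.HH (CohB1.ProjSpaceOver n (Spec (CommRingCat.of K))) (Coh.structureModule _) 1) := by
  obtain ⟨a, ha⟩ := PnFibre.exists_iso_std (n := n) K
  obtain ⟨e⟩ := H28.KRRReg.twistOver_zero (n := n) (T := Spec (CommRingCat.of K))
  exact QCoh.subsingleton_HH_of_iso ((ha 0).some ≪≫ e) 1
    (H28.PnFlat.subsingleton_HH_pullback_of_iso a _ 0 (S0844.result K n 0 1 (by omega) (by omega)))

/-- A module trivial on a fibre has no first cohomology there. -/
theorem subsingleton_fibre_H1 (S : Scheme.{u}) (s : S) {M : (CohB1.ProjSpaceOver n S).Modules}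
    (e : (Scheme.Modules.pullback ((CohB1.ProjSpaceOver.toBase n S).fiberι s)).obj M ≅
      Coh.structureModule ((CohB1.ProjSpaceOver.toBase n S).fiber s)) :
    Subsingleton (CohIII.fiberH (CohB1.ProjSpaceOver.toBase n S) M s 1) := by
  let i := PnFibre.fibreIso (n := n) S s
  obtain ⟨u⟩ := PicClLib.nonempty_pullback_structureModule i.hom
  exact QCoh.subsingleton_HH_of_iso (u ≪≫ e.symm) 1
    (H28.PnFlat.subsingleton_HH_pullback_of_iso i _ 0 (subsingleton_H1_over_field (n := n) (S.residueField s)))

end Groth.Agent.SeesawX.PnProps
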