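import Groth.Agent.SeesawX.Open
import Groth.Agent.SeesawX.PnProps

/-!
# The Picard group of projective space over a connected base
-/

set_option autoImplicit false
set_option linter.style.haveILetI false
set_option linter.unusedSectionVars false
set_option backward.isDefEq.respectTransparency false
set_option backward.isDefEq.respectTransparency.types false
set_option maxHeartbeats 1000000

universe u

open CategoryTheory AlgebraicGeometry TopologicalSpace Opposite
open Groth.Agent.H23.PicMul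

namespace Groth.Agent.SeesawX.PnPic

open Groth.Agent

variable {n : ℕ} {S : Scheme.{u}}

/-- The projection. -/
noncomputable abbrev π (n : ℕ) (S : Scheme.{u}) := CohB1.ProjSpaceOver.toBase n S

/-- The class of `O(d)`. -/
noncomputable abbrev O (d : ℤ) : PicF.Cl (CohB1.ProjSpaceOver n S) :=
  PnFibre.twistOverHom n S (Multiplicative.ofAdd d)

theorem O_mul_neg (d : ℤ) : O (n := n) (S := S) d * O (-d) = 1 := by
  show PnFibre.twistOverHom n S _ * PnFibre.twistOverHom n S _ = 1
  rw [← map_mul, ← ofAdd_add, add_neg_cancel]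
  exact map_one _

/-- The module `N(-d)`. -/
noncomputable abbrev tw (N : (CohB1.ProjSpaceOver n S).Modules) (d : ℤ) : (CohB1.ProjSpaceOver n S).Modules :=
  CohB1.tensorMod N (Twist.twistOver n S (-d))

theorem isInvertible_tw {N : (CohB1.ProjSpaceOver n S).Modules} (hN : PicF.IsInvertible N) (d : ℤ) :
    PicF.IsInvertible (tw N d) :=
  isInvertible_tensor hN (H28.KRRReg.isInvertible_twistOver _)

/-- The set of fibres of degree `d`. -/
def degSet (N : (CohB1.ProjSpaceOver n S).Modules) (d : ℤ) : Set S :=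
  {s | pullHom ((π n S).fiberι s) (PicF.cl N) = pullHom ((π n S).fiberι s) (O d)}

theorem mem_degSet_iff (N : (CohB1.ProjSpaceOver n S).Modules) (d : ℤ) (s : S) :
    s ∈ degSet N d ↔ Nonempty ((Scheme.Modules.pullback ((π n S).fiberι s)).obj (tw N d) ≅
      Coh.structureModule ((π n S).fiber s)) := by
  refine Iff.trans ?_ cl_eq_iff
  show _ ↔ pullHom ((π n S).fiberι s) (PicF.cl (CohB1.tensorMod N (Twist.twistOver n S (-d)))) = 1
  rw [cl_tensor, map_mul]
  show _ ↔ _ * pullHom ((π n S).fiberι s) (O (-d)) = 1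
  constructor
  · intro h
    rw [show pullHom ((π n S).fiberι s) (PicF.cl N) = pullHom ((π n S).fiberι s) (O d) from h, ← map_mul,
      O_mul_neg, map_one]
  · intro h
    have h1 := congrArg (· * pullHom ((π n S).fiberι s) (O d)) h
    rw [mul_assoc, one_mul, ← map_mul (pullHom ((π n S).fiberι s)), mul_comm (O (-d)) (O d), O_mul_neg, map_one, mul_one] at h1
    exact h1

theorem exists_mem_degSet {N : (CohB1.ProjSpaceOver n S).Modules} (hN : PicF.IsInvertible N) (s : S) :
    ∃ d, s ∈ degSet N d := by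
  obtain ⟨d, h⟩ := PnFibre.exists_fibre_twist (n := n) hN s
  exact ⟨d, cl_eq_iff.2 h⟩

theorem degSet_inj (hn : 1 ≤ n) {N : (CohB1.ProjSpaceOver n S).Modules} {s : S} {d d' : ℤ}
    (h : s ∈ degSet N d) (h' : s ∈ degSet N d') : d = d' :=
  PnFibre.fibre_twist_inj (n := n) hn s (cl_eq_iff.1 ((Eq.symm h).trans h')).some

theorem subsingleton_H1 {N : (CohB1.ProjSpaceOver n S).Modules} {s : S} {d : ℤ} (h : s ∈ degSet N d) :
    Subsingleton (CohIII.fiberH (π n S) (tw N d) s 1) :=
  PnProps.subsingleton_fibre_H1 (n := n) S s ((mem_degSet_iff N d s).1 h).some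

theorem epi_bc0 {N : (CohB1.ProjSpaceOver n S).Modules} (hN : PicF.IsInvertible N) {s : S} {d : ℤ} (h : s ∈ degSet N d) :
    Epi (CohBC.bc0 (π n S) (S.fromSpecResidueField s) ((π n S).fiberToSpecResidueField s) ((π n S).fiberι s)
      ((π n S).fiber_fac s) (tw N d)) := by
  haveI := H28.PnFlat.isProper_pr n S
  haveI := H28.PnFlat.lfp_pr n S
  haveI := H28.FlatPr.flat_pr n S
  have hL1 := isFinLocFreeOfRank_one (isInvertible_tw hN d)
  exact epi_bc0_of_H1 (π n S) (QCoh.isFP_of_isFinLocFree fun x => (hL1 x).elim fun U h => ⟨U, 1, h⟩)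
    (H23.Seesaw.isFlatOver_of_isInvertible _ (isInvertible_tw hN d)) s (subsingleton_H1 h)

theorem isOpen_degSet {N : (CohB1.ProjSpaceOver n S).Modules} (hN : PicF.IsInvertible N) (d : ℤ) :
    IsOpen (degSet N d) := by
  refine isOpen_iff_forall_mem_open.2 fun s hs => ?_
  haveI := H28.PnFlat.isProper_pr n S
  haveI := H28.PnFlat.lfp_pr n S
  haveI := H28.FlatPr.flat_pr n S
  obtain ⟨U, hU, h⟩ := exists_nhd_fibre_trivial (π n S) (PnProps.constFibres_toBase (n := n) S) (isInvertible_tw hN d) s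
    ((mem_degSet_iff N d s).1 hs).some (epi_bc0 hN hs)
  exact ⟨U, fun t ht => (mem_degSet_iff N d t).2 (h t ht), U.isOpen, hU⟩

/-- The degree is constant on a connected base. -/
theorem exists_degree (hn : 1 ≤ n) [ConnectedSpace S] {N : (CohB1.ProjSpaceOver n S).Modules}
    (hN : PicF.IsInvertible N) : ∃ d, ∀ s, s ∈ degSet N d := by
  obtain ⟨s₀⟩ := (inferInstance : Nonempty S)
  obtain ⟨d, hd⟩ := exists_mem_degSet hN s₀
  have hc : IsClopen (degSet N d) := by
    refine ⟨⟨?_⟩, isOpen_degSet hN d⟩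
    have : (degSet N d)ᶜ = ⋃ d' ∈ {d' | d' ≠ d}, degSet N d' := by
      ext s
      simp only [Set.mem_compl_iff, Set.mem_iUnion, Set.mem_setOf_eq]
      refine ⟨fun h => ?_, fun ⟨d', hne, hd'⟩ h => hne (degSet_inj hn hd' h)⟩
      obtain ⟨d', hd'⟩ := exists_mem_degSet hN s
      exact ⟨d', fun e => h (e ▸ hd'), hd'⟩
    rw [this]
    exact isOpen_biUnion fun d' _ => isOpen_degSet hN d'
  exact ⟨d, fun s => by rw [hc.eq_univ ⟨s₀, hd⟩]; trivial⟩

/-- A module of constant degree is a twist of a module from the base. -/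
theorem exists_decomp {N : (CohB1.ProjSpaceOver n S).Modules} (hN : PicF.IsInvertible N) (d : ℤ)
    (hd : ∀ s, s ∈ degSet N d) :
    ∃ L : S.Modules, PicF.IsInvertible L ∧
      Nonempty (N ≅ CohB1.tensorMod ((Scheme.Modules.pullback (π n S)).obj L) (Twist.twistOver n S d)) := by
  haveI := H28.PnFlat.isProper_pr n S
  haveI := H28.PnFlat.lfp_pr n S
  haveI := H28.FlatPr.flat_pr n S
  obtain ⟨hG, hc⟩ := pushforward_of_epi (π n S) (PnProps.constFibres_toBase (n := n) S) (isInvertible_tw hN d)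
    (fun s => (mem_degSet_iff N d s).1 (hd s)) (fun s => epi_bc0 hN (hd s))
  haveI := hc
  refine ⟨_, hG, cl_eq_iff.1 ?_⟩
  rw [cl_tensor, show PicF.cl ((Scheme.Modules.pullback (π n S)).obj ((Scheme.Modules.pushforward (π n S)).obj (tw N d))) =
      PicF.cl (tw N d) from
    cl_eq_iff.2 ⟨asIso ((Scheme.Modules.pullbackPushforwardAdjunction (π n S)).counit.app (tw N d))⟩, cl_tensor]
  show PicF.cl N = PicF.cl N * O (-d) * O d
  rw [mul_assoc, mul_comm (O (-d)), O_mul_neg, mul_one]

/-- Uniqueness of the decomposition. -/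
theorem decomp_unique (hn : 1 ≤ n) [Nonempty S] {L L' : S.Modules} {d d' : ℤ}
    (hL : PicF.IsInvertible L) (hL' : PicF.IsInvertible L')
    (e : CohB1.tensorMod ((Scheme.Modules.pullback (π n S)).obj L) (Twist.twistOver n S d) ≅
      CohB1.tensorMod ((Scheme.Modules.pullback (π n S)).obj L') (Twist.twistOver n S d')) :
    d = d' ∧ Nonempty (L ≅ L') := by
  haveI := H28.PnFlat.isProper_pr n S
  haveI := H28.PnFlat.lfp_pr n S
  haveI := H28.FlatPr.flat_pr n S
  obtain ⟨s⟩ := (inferInstance : Nonempty S)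
  have he := cl_eq_iff.2 ⟨e⟩
  rw [cl_tensor, cl_tensor] at he
  have hfib : ∀ {M : S.Modules}, PicF.IsInvertible M →
      pullHom ((π n S).fiberι s) (PicF.cl ((Scheme.Modules.pullback (π n S)).obj M)) = 1 :=
    fun hM => cl_eq_iff.2 (fibre_triv_of_fromBase (π n S) hM (Iso.refl _) s)
  obtain rfl : d = d' := by
    have h := congrArg (pullHom ((π n S).fiberι s)) he
    rw [map_mul, map_mul, hfib hL, hfib hL', one_mul, one_mul] at h
    exact PnFibre.fibre_twist_inj (n := n) hn s (cl_eq_iff.1 h).some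
  refine ⟨rfl, ?_⟩
  have h2 := congrArg (· * O (n := n) (S := S) (-d)) he
  simp only [mul_assoc] at h2
  rw [show PicF.cl (Twist.twistOver n S d) * O (n := n) (S := S) (-d) = 1 from O_mul_neg d, mul_one, mul_one] at h2
  obtain ⟨e'⟩ := cl_eq_iff.1 h2
  have hf : ∀ W : S.Opens, Function.Bijective ((π n S).app W) := fun W =>
    bijective_app_baseChange (π n S) (PnProps.constFibres_toBase (n := n) S)
      (IsPullback.of_horiz_isIso ⟨(Category.id_comp (π n S)).trans (Category.comp_id (π n S)).symm⟩ :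
        IsPullback (𝟙 _) (π n S) (π n S) (𝟙 S)) W
  haveI := H23.PullPush.isIso_unit_of_isFinLocFree (π n S) hf L fun x => ((isFinLocFreeOfRank_one hL) x).elim fun U h => ⟨U, 1, h⟩
  haveI := H23.PullPush.isIso_unit_of_isFinLocFree (π n S) hf L' fun x => ((isFinLocFreeOfRank_one hL') x).elim fun U h => ⟨U, 1, h⟩
  exact ⟨asIso ((Scheme.Modules.pullbackPushforwardAdjunction (π n S)).unit.app L) ≪≫
    (Scheme.Modules.pushforward (π n S)).mapIso e' ≪≫
    (asIso ((Scheme.Modules.pullbackPushforwardAdjunction (π n S)).unit.app L')).symm⟩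

end Groth.Agent.SeesawX.PnPic
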