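import Groth.Agent.StratX.Sheaf
import Groth.Agent.QCoh.RpushExchange2
import Groth.Agent.FittX.Sheaf
import Groth.Agent.FComplLib.KrullSupp
import Groth.Agent.DepthAlong6.FibreScheme
import Mathlib.AlgebraicGeometry.IdealSheaf.Functorial

/-!
# Vector bundles, vanishing of finite type modules, constructibility
-/

set_option autoImplicit false
set_option linter.style.haveILetI false
set_option linter.unusedSectionVars false
set_option backward.isDefEq.respectTransparency false
set_option backward.isDefEq.respectTransparency.types false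

universe u

open CategoryTheory CategoryTheory.Limits AlgebraicGeometry TopologicalSpace Opposite Topology

namespace Groth.Agent.SeesawX

open Groth.Agent

/-- A surjection of vector bundles of the same rank is an isomorphism. -/
theorem isIso_of_epi_rank {Y : Scheme.{u}} {n : ℕ} {M N : Y.Modules} (hM : FlatMod.IsFinLocFreeOfRank n M)
    (hN : FlatMod.IsFinLocFreeOfRank n N) (φ : M ⟶ N) [Epi φ] : IsIso φ := by
  have hMq := QCoh.isQCoh_of_isFinLocFree (M := M) fun x => (hM x).elim fun U h => ⟨U, n, h⟩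
  have hNq := QCoh.isQCoh_of_isFinLocFree (M := N) fun x => (hN x).elim fun U h => ⟨U, n, h⟩
  refine QCoh.isIso_of_isBasis φ Y.isBasis_affineOpens fun U hU => ?_
  obtain ⟨hMf, hMp, hMr⟩ := (StratX.isFinLocFreeOfRank_iff_sections hMq).1 hM U hU
  obtain ⟨hNf, hNp, hNr⟩ := (StratX.isFinLocFreeOfRank_iff_sections hNq).1 hN U hU
  let l : Γ(M, U) →ₗ[Γ(Y, U)] Γ(N, U) :=
    { toFun := φ.app U
      map_add' := map_add _
      map_smul' := Scheme.Modules.Hom.app_smul _ }
  have hs : Function.Surjective l := QCoh.app_surjective_of_epi hMq hNq φ hU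
  obtain ⟨σ, hσ⟩ := Module.projective_lifting_property l LinearMap.id hs
  have hli : ∀ y, l (σ y) = y := fun y => congr($hσ y)
  let e : Γ(M, U) ≃ₗ[Γ(Y, U)] LinearMap.ker l × Γ(N, U) :=
    { toFun := fun x => (⟨x - σ (l x), by rw [LinearMap.mem_ker, map_sub, hli, sub_self]⟩, l x)
      invFun := fun p => p.1.1 + σ p.2
      left_inv := fun x => sub_add_cancel _ _
      right_inv := fun ⟨⟨x, hx⟩, y⟩ => by
        have hxy : l (x + σ y) = y := by rw [map_add, LinearMap.mem_ker.1 hx, zero_add, hli]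
        refine Prod.ext (Subtype.ext ?_) hxy
        show x + σ y - σ (l (x + σ y)) = x
        rw [hxy, add_sub_cancel_right]
      map_add' := fun x y => by
        refine Prod.ext (Subtype.ext ?_) (map_add l x y)
        show x + y - σ (l (x + y)) = (x - σ (l x)) + (y - σ (l y))
        rw [map_add, map_add]; abel
      map_smul' := fun a x => by
        refine Prod.ext (Subtype.ext ?_) (map_smul l a x)
        show a • x - σ (l (a • x)) = a • (x - σ (l x))
        rw [map_smul, map_smul, smul_sub] }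
  haveI := hMf; haveI := hMp; haveI := hNf; haveI := hNp
  haveI : Module.Finite Γ(Y, U) (LinearMap.ker l) :=
    Module.Finite.of_surjective ((LinearMap.fst Γ(Y, U) (LinearMap.ker l) Γ(N, U)).comp e.toLinearMap)
      fun k => ⟨e.symm (k, 0), by simp⟩
  haveI : Module.Projective Γ(Y, U) (LinearMap.ker l × Γ(N, U)) := Module.Projective.of_equiv e
  haveI : Module.Projective Γ(Y, U) (LinearMap.ker l) :=
    Module.Projective.of_split (LinearMap.inl Γ(Y, U) (LinearMap.ker l) Γ(N, U)) (LinearMap.fst Γ(Y, U) (LinearMap.ker l) Γ(N, U))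
      (LinearMap.ext fun _ => rfl)
  haveI : Subsingleton (LinearMap.ker l) := by
    refine (Module.rankAtStalk_eq_zero_iff_subsingleton (R := Γ(Y, U)) (M := LinearMap.ker l)).1 (funext fun x => ?_)
    have h1 := congrFun (Module.rankAtStalk_eq_of_equiv e) x
    rw [hMr, Module.rankAtStalk_prod, Pi.add_apply, hNr] at h1
    show _ = 0
    omega
  show Function.Bijective l
  refine ⟨(injective_iff_map_eq_zero l).2 fun x hx => ?_, hs⟩
  exact congrArg Subtype.val (Subsingleton.elim (⟨x, hx⟩ : LinearMap.ker l) 0)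

theorem isLocallyConstructible_compl' {Y : Scheme.{u}} {s : Set Y} (h : IsLocallyConstructible s) :
    IsLocallyConstructible sᶜ := fun x => by
  obtain ⟨U, hx, hU, hc⟩ := h x
  exact ⟨U, hx, hU, by rw [Set.preimage_compl]; exact hc.compl⟩

theorem isLocallyConstructible_support {Y : Scheme.{u}} (I : Y.IdealSheafData)
    (hI : ∀ U : Y.affineOpens, (I.ideal U).FG) : IsLocallyConstructible (I.support : Set Y) := by
  refine IsLocallyConstructible.of_isOpenCover (U := fun W : Y.affineOpens => W.1)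
    (IsOpenCover.mk (iSup_affineOpens_eq_top Y)) fun W => ?_
  obtain ⟨t, ht⟩ := hI W
  haveI : CompactSpace ↥((W.1 : Y.Opens) : Set Y) := isCompact_iff_compactSpace.1 W.2.isCompact
  haveI : QuasiSeparatedSpace ↥((W.1 : Y.Opens) : Set Y) := (isQuasiSeparated_iff_quasiSeparatedSpace _ W.1.isOpen).1 W.2.isQuasiSeparated
  have h : Subtype.val ⁻¹' (I.support : Set Y) =
      ⋂ a ∈ (t : Set Γ(Y, W.1)), (Subtype.val ⁻¹' (Y.basicOpen a : Set Y) : Set W.1)ᶜ := by
    ext ⟨x, hx⟩
    have h' := Set.ext_iff.1 (I.coe_support_inter W) x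
    rw [← ht] at h'
    simp only [Scheme.zeroLocus_span, Set.mem_inter_iff] at h'
    simp only [Set.mem_preimage, Set.mem_iInter, Set.mem_compl_iff]
    exact ⟨fun hs a ha => (Scheme.mem_zeroLocus_iff _ _ _).1 (h'.1 ⟨hs, hx⟩).1 a ha,
      fun hs => (h'.2 ⟨(Scheme.mem_zeroLocus_iff _ _ _).2 fun a ha => hs a ha, hx⟩).1⟩
  refine Eq.subst (motive := fun s : Set W.1 => IsLocallyConstructible s) h.symm ?_
  refine (IsConstructible.biInter t.finite_toSet fun a _ => ?_).isLocallyConstructible
  refine (IsCompact.isConstructible ?_ ((Y.basicOpen a).isOpen.preimage continuous_subtype_val)).compl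
  refine Subtype.isCompact_iff.2 ?_
  convert (W.2.basicOpen a).isCompact
  ext x
  exact ⟨fun ⟨z, hz, e⟩ => e ▸ hz, fun hx => ⟨⟨x, Y.basicOpen_le a hx⟩, hx, rfl⟩⟩

theorem sheafIdeal_zero_of_isZero {Y : Scheme.{u}} {C : Y.Modules} (hC : Coh.IsQCoh C) (hft : CohB1.IsFT C)
    (h : IsZero C) : Fitt.sheafIdeal C 0 = ⊤ := by
  rw [← Scheme.IdealSheafData.support_eq_bot_iff, ← SetLike.coe_set_eq, FittX.support_sheafIdeal_zero hC hft,
    TopologicalSpace.Closeds.coe_bot, Set.eq_empty_iff_forall_notMem]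
  intro x hx
  refine hx (subsingleton_of_forall_eq 0 fun z => ?_)
  obtain ⟨V, hV, w, rfl⟩ := C.presheaf.exists_germ_eq z
  haveI := QCoh.subsingleton_Γ_of_isZero h V
  rw [Subsingleton.elim w 0, map_zero]

theorem isZero_of_sheafIdeal_zero {Y : Scheme.{u}} {C : Y.Modules} (hC : Coh.IsQCoh C) (hft : CohB1.IsFT C)
    (h : Fitt.sheafIdeal C 0 = ⊤) : IsZero C := by
  suffices h0 : ∀ x, Subsingleton (C.presheaf.stalk x) by
    haveI : IsIso (⊤ : Y.Opens).ι := inferInstanceAs (IsIso Y.topIso.hom)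
    have hz := FComplLib.isZero_restrict_of_subsingleton_stalk C ⊤ fun x _ => h0 x
    refine (IsZero.iff_id_eq_zero _).2 (Scheme.Modules.hom_ext _ _ fun V => ConcreteCategory.hom_ext _ _ fun z => ?_)
    have hs := QCoh.subsingleton_Γ_of_isZero hz ((⊤ : Y.Opens).ι ⁻¹ᵁ V)
    have e : (⊤ : Y.Opens).ι ''ᵁ ((⊤ : Y.Opens).ι ⁻¹ᵁ V) = V := by
      rw [Scheme.Hom.image_preimage_eq_opensRange_inf, Scheme.Opens.opensRange_ι, top_inf_eq]
    have hs' : Subsingleton Γ(C, (⊤ : Y.Opens).ι ''ᵁ ((⊤ : Y.Opens).ι ⁻¹ᵁ V)) := hs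
    rw [e] at hs'
    exact @Subsingleton.elim _ hs' _ _
  refine fun x => by_contra fun hx => ?_
  have h' := FittX.support_sheafIdeal_zero hC hft
  rw [h, Scheme.IdealSheafData.support_top, TopologicalSpace.Closeds.coe_bot] at h'
  exact Set.notMem_empty x (h'.ge hx)

theorem isZero_of_fibres {Y : Scheme.{u}} {C : Y.Modules} (hC : Coh.IsQCoh C) (hft : CohB1.IsFT C)
    (h : ∀ y, IsZero ((Scheme.Modules.pullback (Y.fromSpecResidueField y)).obj C)) : IsZero C := by
  refine isZero_of_sheafIdeal_zero hC hft ?_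
  rw [← Scheme.IdealSheafData.support_eq_bot_iff, ← SetLike.coe_set_eq, TopologicalSpace.Closeds.coe_bot,
    Set.eq_empty_iff_forall_notMem]
  intro y hy
  have h0 := sheafIdeal_zero_of_isZero (QCoh.isQCoh_pullback _ hC) (FittX.isFT_pullback _ hC hft) (h y)
  rw [← FittX.sheafIdeal_comap _ hC hft, ← Scheme.IdealSheafData.support_eq_bot_iff,
    Scheme.IdealSheafData.support_comap, ← SetLike.coe_set_eq, TopologicalSpace.Closeds.coe_preimage,
    TopologicalSpace.Closeds.coe_bot, Set.eq_empty_iff_forall_notMem] at h0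
  refine h0 (IsLocalRing.closedPoint (Y.residueField y)) ?_
  rw [Set.mem_preimage, Scheme.fromSpecResidueField_apply]
  exact hy

end Groth.Agent.SeesawX
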