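import Groth.Agent.CohPullX.EpiFibre
import Groth.Agent.KFlatLib.Scheme.RpushQCoh
import Groth.Agent.SeesawX.Basic
import Groth.Agent.RelPC17.Module
import Groth.Agent.FlatPt5.Stage
import Groth.Agent.ConsPropLib.FibreLocFreeRank
import Groth.Agent.H23.Seesaw
import Groth.Agent.H23.DblAlg
import Groth.Agent.H23.PullPush
import Groth.Agent.H23.RigidApply

/-!
# `O = f_* O` for constant global functions on the fibres, after every base change
-/

set_option autoImplicit false
set_option linter.style.haveILetI false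
set_option linter.unusedSectionVars false
set_option backward.isDefEq.respectTransparency false
set_option backward.isDefEq.respectTransparency.types false

universe u

open CategoryTheory CategoryTheory.Limits AlgebraicGeometry TopologicalSpace Opposite

namespace Groth.Agent.SeesawX

open Groth.Agent

variable {X Y : Scheme.{u}}

/-- If the structure modules are isomorphic through `f`, then `f` is bijective on functions. -/
theorem bijective_app_of_iso (f : X ⟶ Y)
    (e : Coh.structureModule Y ≅ (Scheme.Modules.pushforward f).obj (Coh.structureModule X)) (W : Y.Opens) :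
    Function.Bijective (f.app W) := by
  let θ : Γ(Y, W) → Γ(X, f ⁻¹ᵁ W) := fun a =>
    (show Γ(X, f ⁻¹ᵁ W) from e.hom.app W (show Γ(Coh.structureModule Y, W) from a))
  have hbij : Function.Bijective θ :=
    (ConcreteCategory.isIso_iff_bijective _).1 (Scheme.Modules.Hom.isIso_iff_isIso_app.1 (inferInstance : IsIso e.hom) W)
  have hθ : ∀ a, θ a = f.app W a * θ 1 := fun a => by
    refine Eq.trans (congrArg (fun z : Γ(Y, W) => θ z) (mul_one a).symm) ?_
    exact Scheme.Modules.Hom.app_smul e.hom a (show Γ(Coh.structureModule Y, W) from (1 : Γ(Y, W)))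
  obtain ⟨a₀, ha₀⟩ := hbij.2 1
  rw [hθ] at ha₀
  refine ⟨fun a b h => hbij.1 (by rw [hθ a, hθ b, h]), fun b => ?_⟩
  obtain ⟨a, ha⟩ := hbij.2 (b * θ 1)
  rw [hθ] at ha
  exact ⟨a, by
    calc f.app W a = f.app W a * θ 1 * f.app W a₀ := by rw [mul_assoc, mul_comm (θ 1), ha₀, mul_one]
      _ = b := by rw [ha, mul_assoc, mul_comm (θ 1), ha₀, mul_one]⟩

/-- An endomorphism of the structure module sending `1` to a unit is an isomorphism. -/
theorem isIso_of_isUnit (φ : Coh.structureModule Y ⟶ Coh.structureModule Y)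
    (h : IsUnit (show Γ(Y, ⊤) from φ.app ⊤ (show Γ(Coh.structureModule Y, ⊤) from (1 : Γ(Y, ⊤))))) : IsIso φ := by
  rw [Scheme.Modules.Hom.isIso_iff_isIso_app]
  intro W
  let c : Γ(Y, W) := show Γ(Y, W) from φ.app W (show Γ(Coh.structureModule Y, W) from (1 : Γ(Y, W)))
  have hc : IsUnit c := by
    have e : Y.presheaf.map (homOfLE (le_top : W ≤ ⊤)).op
        (show Γ(Y, ⊤) from φ.app ⊤ (show Γ(Coh.structureModule Y, ⊤) from (1 : Γ(Y, ⊤)))) = c := by
      refine (QCoh.map_app_comm φ (homOfLE (le_top : W ≤ ⊤)) (show Γ(Coh.structureModule Y, ⊤) from (1 : Γ(Y, ⊤)))).symm.trans ?_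
      show φ.app W (show Γ(Coh.structureModule Y, W) from Y.presheaf.map (homOfLE (le_top : W ≤ ⊤)).op (1 : Γ(Y, ⊤))) = _
      rw [map_one]
    exact e ▸ h.map (Y.presheaf.map (homOfLE (le_top : W ≤ ⊤)).op).hom
  have hφ : ∀ a : Γ(Y, W), (show Γ(Y, W) from φ.app W (show Γ(Coh.structureModule Y, W) from a)) = a * c := fun a => by
    refine Eq.trans (congrArg (fun z : Γ(Y, W) => (show Γ(Y, W) from φ.app W (show Γ(Coh.structureModule Y, W) from z)))
      (mul_one a).symm) ?_
    exact Scheme.Modules.Hom.app_smul φ a (show Γ(Coh.structureModule Y, W) from (1 : Γ(Y, W)))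
  refine (ConcreteCategory.isIso_iff_bijective _).2 ⟨fun a b hab => ?_, fun b => ?_⟩
  · refine hc.mul_left_inj.1 (?_ : (show Γ(Y, W) from a) * c = (show Γ(Y, W) from b) * c)
    rw [← hφ, ← hφ]
    exact hab
  · let b' : Γ(Y, W) := b
    refine ⟨(b' * (↑(hc.unit⁻¹) : Γ(Y, W)) : Γ(Y, W)), (hφ (b' * (↑(hc.unit⁻¹) : Γ(Y, W)))).trans ?_⟩
    show b' * (↑(hc.unit⁻¹) : Γ(Y, W)) * c = b'
    rw [mul_assoc, hc.val_inv_mul, mul_one]

/-- The comparison of the pulled back structure module. -/
noncomputable def unitIso (g : X ⟶ Y) : (Scheme.Modules.pullback g).obj (Coh.structureModule Y) ≅ Coh.structureModule X :=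
  @asIso _ _ _ _ (show (Scheme.Modules.pullback g).obj (Coh.structureModule Y) ⟶ Coh.structureModule X from
      SheafOfModules.pullbackObjUnitToUnit g.toRingCatSheafHom)
    (inferInstanceAs (IsIso (SheafOfModules.pullbackObjUnitToUnit g.toRingCatSheafHom)))

theorem unitIso_pullSec_one (g : X ⟶ Y) (U : Y.Opens) {W : X.Opens} (hle : W ≤ g ⁻¹ᵁ U) :
    (unitIso g).hom.app W (QCoh.pullSec g (Coh.structureModule Y) hle (show Γ(Coh.structureModule Y, U) from (1 : Γ(Y, U)))) =
      (show Γ(Coh.structureModule X, W) from (1 : Γ(X, W))) := by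
  have h1 : (Scheme.Modules.pullbackPushforwardAdjunction g).unit.app (Coh.structureModule Y) ≫
      (Scheme.Modules.pushforward g).map (unitIso g).hom =
        (show Coh.structureModule Y ⟶ (Scheme.Modules.pushforward g).obj (Coh.structureModule X) from
          SheafOfModules.unitToPushforwardObjUnit g.toRingCatSheafHom) :=
    ((Scheme.Modules.pullbackPushforwardAdjunction g).homEquiv_unit _ _ (unitIso g).hom).symm.trans
      (Equiv.apply_symm_apply _ _)
  let x : Γ((Scheme.Modules.pullback g).obj (Coh.structureModule Y), g ⁻¹ᵁ U) :=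
    ((Scheme.Modules.pullbackPushforwardAdjunction g).unit.app (Coh.structureModule Y)).app U
      (show Γ(Coh.structureModule Y, U) from (1 : Γ(Y, U)))
  have h2 : (unitIso g).hom.app (g ⁻¹ᵁ U) x = (show Γ(Coh.structureModule X, g ⁻¹ᵁ U) from g.app U (1 : Γ(Y, U))) :=
    congrArg (fun t => t.app U (show Γ(Coh.structureModule Y, U) from (1 : Γ(Y, U)))) h1
  refine (QCoh.map_app_comm (unitIso g).hom (homOfLE hle) x).trans ?_
  refine (congrArg _ h2).trans ?_
  show X.presheaf.map (homOfLE hle).op (g.app U 1) = (1 : Γ(X, W))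
  rw [map_one, map_one]

theorem hom_ext_one {M : Y.Modules} (a b : Coh.structureModule Y ⟶ M)
    (h : a.app ⊤ (show Γ(Coh.structureModule Y, ⊤) from (1 : Γ(Y, ⊤))) =
      b.app ⊤ (show Γ(Coh.structureModule Y, ⊤) from (1 : Γ(Y, ⊤)))) : a = b := by
  refine Scheme.Modules.hom_ext _ _ fun W => ConcreteCategory.hom_ext _ _ fun z => ?_
  let o : Γ(Coh.structureModule Y, W) := show Γ(Y, W) from 1
  have h1 : ∀ c : Coh.structureModule Y ⟶ M, c.app W o = M.presheaf.map (homOfLE (le_top : W ≤ ⊤)).op
      (c.app ⊤ (show Γ(Coh.structureModule Y, ⊤) from (1 : Γ(Y, ⊤)))) := fun c => by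
    refine Eq.trans ?_ (QCoh.map_app_comm c (homOfLE (le_top : W ≤ ⊤)) (show Γ(Coh.structureModule Y, ⊤) from (1 : Γ(Y, ⊤))))
    exact congrArg (fun t => c.app W t) (map_one (Y.presheaf.map (homOfLE (le_top : W ≤ ⊤)).op).hom).symm
  have hz : z = (show Γ(Y, W) from z) • o := (mul_one (show Γ(Y, W) from z)).symm
  rw [hz, Scheme.Modules.Hom.app_smul, Scheme.Modules.Hom.app_smul, h1 a, h1 b, h]

variable (f : X ⟶ Y)

/-- The comparison map to the functions of the fibre over a point. -/
theorem unit_pullback_bc0 {T XT : Scheme.{u}} (g : T ⟶ Y) (fT : XT ⟶ T) (gT : XT ⟶ X) (w : gT ≫ f = fT ≫ g)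
    (hf : ∀ W : T.Opens, Function.Bijective (fT.app W)) :
    (unitIso g).inv ≫ (Scheme.Modules.pullback g).map
        (show Coh.structureModule Y ⟶ (Scheme.Modules.pushforward f).obj (Coh.structureModule X) from
          SheafOfModules.unitToPushforwardObjUnit f.toRingCatSheafHom) ≫
      CohBC.bc0 f g fT gT w (Coh.structureModule X) ≫ (Scheme.Modules.pushforward fT).map (unitIso gT).hom =
      (H23.PullPush.structureModuleIsoPush fT hf).hom := by
  rw [Iso.inv_comp_eq]
  let ψ : (Scheme.Modules.pullback g).obj (Coh.structureModule Y) ⟶ _ :=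
    (unitIso g).hom ≫ (H23.PullPush.structureModuleIsoPush fT hf).hom
  apply ((Scheme.Modules.pullbackPushforwardAdjunction g).homEquiv _ _).injective
  refine hom_ext_one _ _ ?_
  simp only [Adjunction.homEquiv_unit]
  let σ := QCoh.pullSec g (Coh.structureModule Y) (le_refl (g ⁻¹ᵁ (⊤ : Y.Opens)))
    (show Γ(Coh.structureModule Y, ⊤) from (1 : Γ(Y, ⊤)))
  have e1 : σ = ((Scheme.Modules.pullbackPushforwardAdjunction g).unit.app (Coh.structureModule Y)).app ⊤
      (show Γ(Coh.structureModule Y, ⊤) from (1 : Γ(Y, ⊤))) := QCoh.map_id' _ _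
  show ((Scheme.Modules.pullback g).map
        (show Coh.structureModule Y ⟶ (Scheme.Modules.pushforward f).obj (Coh.structureModule X) from
          SheafOfModules.unitToPushforwardObjUnit f.toRingCatSheafHom) ≫
      CohBC.bc0 f g fT gT w (Coh.structureModule X) ≫ (Scheme.Modules.pushforward fT).map (unitIso gT).hom).app
        (g ⁻¹ᵁ ⊤) (((Scheme.Modules.pullbackPushforwardAdjunction g).unit.app (Coh.structureModule Y)).app ⊤
      (show Γ(Coh.structureModule Y, ⊤) from (1 : Γ(Y, ⊤)))) = ψ.app (g ⁻¹ᵁ ⊤)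
        (((Scheme.Modules.pullbackPushforwardAdjunction g).unit.app (Coh.structureModule Y)).app ⊤
      (show Γ(Coh.structureModule Y, ⊤) from (1 : Γ(Y, ⊤))))
  rw [← e1]
  have hle : fT ⁻¹ᵁ (g ⁻¹ᵁ ⊤) ≤ gT ⁻¹ᵁ (f ⁻¹ᵁ ⊤) := le_top
  refine (congrArg (fun z => (CohBC.bc0 f g fT gT w (Coh.structureModule X) ≫
      (Scheme.Modules.pushforward fT).map (unitIso gT).hom).app (g ⁻¹ᵁ ⊤) z)
    (FlatPt5.pullSec_map g _ le_rfl _)).trans ?_
  refine (congrArg (fun z => (unitIso gT).hom.app (fT ⁻¹ᵁ (g ⁻¹ᵁ ⊤)) z)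
    (CohPullX.bc0_app_pullSec (f := f) (g := g) (g' := gT) (f' := fT) w _ ⊤ (g ⁻¹ᵁ ⊤) le_rfl hle
      (show Γ((Scheme.Modules.pushforward f).obj (Coh.structureModule X), (⊤ : Y.Opens)) from f.app ⊤ (1 : Γ(Y, ⊤))))).trans ?_
  refine Eq.trans ?_ (congrArg (fun z => (H23.PullPush.structureModuleIsoPush fT hf).hom.app (g ⁻¹ᵁ ⊤) z)
    (unitIso_pullSec_one g ⊤ (le_refl (g ⁻¹ᵁ (⊤ : Y.Opens))))).symm
  rw [map_one]
  refine (unitIso_pullSec_one gT (f ⁻¹ᵁ ⊤) hle).trans ?_
  show (1 : Γ(XT, fT ⁻¹ᵁ (g ⁻¹ᵁ ⊤))) = fT.app (g ⁻¹ᵁ ⊤) 1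
  rw [map_one]

theorem bijective_fibre_app (y : Y) (hy : Function.Bijective (f.fiberToSpecResidueField y).appTop)
    (W : (Spec (Y.residueField y)).Opens) : Function.Bijective ((f.fiberToSpecResidueField y).app W) := by
  rcases W.1.eq_empty_or_nonempty with h | ⟨w, hw⟩
  · haveI : Subsingleton Γ(Spec (Y.residueField y), W) := by
      rw [show W = ⊥ from Opens.ext h]; infer_instance
    haveI : Subsingleton Γ(f.fiber y, (f.fiberToSpecResidueField y) ⁻¹ᵁ W) := by
      rw [show (f.fiberToSpecResidueField y) ⁻¹ᵁ W = ⊥ from Opens.ext (by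
        show (f.fiberToSpecResidueField y) ⁻¹' (W : Set (Spec (Y.residueField y))) = ∅
        rw [show (W : Set (Spec (Y.residueField y))) = ∅ from h, Set.preimage_empty])]
      infer_instance
    exact ⟨fun a b _ => Subsingleton.elim a b, fun b => ⟨0, Subsingleton.elim _ _⟩⟩
  · haveI : Subsingleton (Spec (Y.residueField y)) := inferInstanceAs (Subsingleton (PrimeSpectrum (Y.residueField y)))
    rw [show W = ⊤ from top_le_iff.1 fun z _ => (Subsingleton.elim w z) ▸ hw]
    exact hy

/-- The base change map to a fibre with constant functions is epi. -/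
theorem epi_bc0_fibre (y : Y) (hy : Function.Bijective (f.fiberToSpecResidueField y).appTop) :
    Epi (CohBC.bc0 f (Y.fromSpecResidueField y) (f.fiberToSpecResidueField y) (f.fiberι y) (f.fiber_fac y)
      (Coh.structureModule X)) := by
  let u : Coh.structureModule Y ⟶ (Scheme.Modules.pushforward f).obj (Coh.structureModule X) :=
    SheafOfModules.unitToPushforwardObjUnit f.toRingCatSheafHom
  have h : Epi (((unitIso (Y.fromSpecResidueField y)).inv ≫ (Scheme.Modules.pullback (Y.fromSpecResidueField y)).map u) ≫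
    CohBC.bc0 f (Y.fromSpecResidueField y) (f.fiberToSpecResidueField y) (f.fiberι y) (f.fiber_fac y)
      (Coh.structureModule X) ≫ (Scheme.Modules.pushforward (f.fiberToSpecResidueField y)).map (unitIso (f.fiberι y)).hom) := by
    rw [Category.assoc, unit_pullback_bc0 f _ _ _ (f.fiber_fac y) (bijective_fibre_app f y hy)]; infer_instance
  haveI := h
  have h2 := epi_of_epi ((unitIso (Y.fromSpecResidueField y)).inv ≫ (Scheme.Modules.pullback (Y.fromSpecResidueField y)).map u)
    (CohBC.bc0 f (Y.fromSpecResidueField y) (f.fiberToSpecResidueField y) (f.fiberι y) (f.fiber_fac y)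
      (Coh.structureModule X) ≫ (Scheme.Modules.pushforward (f.fiberToSpecResidueField y)).map (unitIso (f.fiberι y)).hom)
  have h3 : Epi ((CohBC.bc0 f (Y.fromSpecResidueField y) (f.fiberToSpecResidueField y) (f.fiberι y) (f.fiber_fac y)
      (Coh.structureModule X) ≫ (Scheme.Modules.pushforward (f.fiberToSpecResidueField y)).map (unitIso (f.fiberι y)).hom) ≫
    inv ((Scheme.Modules.pushforward (f.fiberToSpecResidueField y)).map (unitIso (f.fiberι y)).hom)) := epi_comp _ _
  rwa [Category.assoc, IsIso.hom_inv_id, Category.comp_id] at h3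

variable [IsProper f] [Flat f] [LocallyOfFinitePresentation f]

/-- `O = f_* O` universally, for any proper flat finitely presented family with constant functions on the fibres. -/
theorem bijective_app_baseChange (hf : H23.RigidApply.ConstFibres f) {T XT : Scheme.{u}} {g : T ⟶ Y} {fT : XT ⟶ T}
    {gT : XT ⟶ X} (hT : IsPullback gT fT f g) (W : T.Opens) : Function.Bijective (fT.app W) := by
  haveI : HasInjectiveResolutions X.Modules := KFlatLib.hasInjectiveResolutions_modules
  haveI := SpObjSS.enoughInjectives_of_hasInjectiveResolutions (C := X.Modules)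
  haveI := QCoh.preservesFiniteLimits_push f
  let u : Coh.structureModule Y ⟶ (Scheme.Modules.pushforward f).obj (Coh.structureModule X) :=
    SheafOfModules.unitToPushforwardObjUnit f.toRingCatSheafHom
  have hinv : ∀ Z : Scheme.{u}, PicF.IsInvertible (Coh.structureModule Z) := fun Z x =>
    ⟨⊤, trivial, ⟨(Scheme.Modules.restrictFunctorIsoPullback _).app _ ≪≫ unitIso _⟩⟩
  have hone : ∀ Z : Scheme.{u}, FlatMod.IsFinLocFreeOfRank 1 (Coh.structureModule Z) := fun Z x =>
    ⟨⊤, trivial, ⟨(Scheme.Modules.restrictFunctorIsoPullback _).app _ ≪≫ unitIso _ ≪≫ (H23.DblAlg.freeOneIso _).symm⟩⟩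
  have hfp := QCoh.isFP_of_isFinLocFree fun x => (hone X x).elim fun U h => ⟨U, 1, h⟩
  have hfl : FlatMod.IsFlatOver f (Coh.structureModule X) := H23.Seesaw.isFlatOver_of_isInvertible f (hinv X)
  have hp := fun y => bijective_fibre_app f y (hf y)
  have key : ∀ y, (unitIso (Y.fromSpecResidueField y)).inv ≫ (Scheme.Modules.pullback (Y.fromSpecResidueField y)).map u ≫
      CohBC.bc0 f (Y.fromSpecResidueField y) (f.fiberToSpecResidueField y) (f.fiberι y) (f.fiber_fac y)
        (Coh.structureModule X) ≫ (Scheme.Modules.pushforward (f.fiberToSpecResidueField y)).map (unitIso (f.fiberι y)).hom =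
      (H23.PullPush.structureModuleIsoPush (f.fiberToSpecResidueField y) (hp y)).hom := fun y =>
    unit_pullback_bc0 f _ _ _ (f.fiber_fac y) (hp y)
  have hepi := fun y => epi_bc0_fibre f y (hf y)
  choose V n hV hk e using fun y : Y => CohPullX.exists_kerBC_nhd_of_epi hfp hfl y (hepi y)
  have hq := QCoh.isQCoh_of_isFP hfp
  let G := (Scheme.Modules.pushforward f).obj (Coh.structureModule X)
  let i : (Coh.Rpush f 0).obj (Coh.structureModule X) ≅ G := (Scheme.Modules.pushforward f).rightDerivedZeroIsoSelf.app _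
  have hgu : ∀ y, IsIso ((Scheme.Modules.pullback (Y.fromSpecResidueField y)).map u) := fun y => by
    haveI := CohPullX.isIso_bc0_of_hasKerBC (IsPullback.of_hasPullback f (Y.fromSpecResidueField y)) hq
      fun t => ⟨V y, by rw [Scheme.fromSpecResidueField_apply]; exact hV y, hk y⟩
    haveI : IsIso (CohBC.bc0 f (Y.fromSpecResidueField y) (f.fiberToSpecResidueField y) (f.fiberι y) (f.fiber_fac y)
        (Coh.structureModule X)) := this
    have h : IsIso ((unitIso (Y.fromSpecResidueField y)).inv ≫ (Scheme.Modules.pullback (Y.fromSpecResidueField y)).map u ≫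
      CohBC.bc0 f (Y.fromSpecResidueField y) (f.fiberToSpecResidueField y) (f.fiberι y) (f.fiber_fac y)
        (Coh.structureModule X) ≫ (Scheme.Modules.pushforward (f.fiberToSpecResidueField y)).map (unitIso (f.fiberι y)).hom) := by
      rw [key]; infer_instance
    haveI := h
    haveI := IsIso.of_isIso_comp_left (unitIso (Y.fromSpecResidueField y)).inv
      ((Scheme.Modules.pullback (Y.fromSpecResidueField y)).map u ≫
      CohBC.bc0 f (Y.fromSpecResidueField y) (f.fiberToSpecResidueField y) (f.fiberι y) (f.fiber_fac y)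
        (Coh.structureModule X) ≫ (Scheme.Modules.pushforward (f.fiberToSpecResidueField y)).map (unitIso (f.fiberι y)).hom)
    exact IsIso.of_isIso_comp_right _ (CohBC.bc0 f (Y.fromSpecResidueField y) (f.fiberToSpecResidueField y) (f.fiberι y)
      (f.fiber_fac y) (Coh.structureModule X) ≫ (Scheme.Modules.pushforward (f.fiberToSpecResidueField y)).map (unitIso (f.fiberι y)).hom)
  have hlfG : FlatMod.IsFinLocFree G := fun y => ⟨V y, n y, hV y,
    ⟨(Scheme.Modules.restrictFunctor (V y).ι).mapIso i.symm ≪≫ (e y).some⟩⟩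
  have hn : ∀ y, n y = 1 := fun y => by
    let t : Spec (Y.residueField y) ⟶ (V y : Scheme.{u}) := IsOpenImmersion.lift (V y).ι (Y.fromSpecResidueField y) (by
      rw [Scheme.range_fromSpecResidueField, Scheme.Opens.range_ι]
      exact Set.singleton_subset_iff.2 (hV y))
    have h1 : FlatMod.IsFinLocFreeOfRank (n y) ((Scheme.Modules.pullback (Y.fromSpecResidueField y)).obj G) :=
      (ConsPropLib.isFinLocFreeOfRank_iso ((Scheme.Modules.pullbackComp t (V y).ι).app G ≪≫
        (Scheme.Modules.pullbackCongr (IsOpenImmersion.lift_fac _ _ _)).app G)).1 (TFOneX.isFinLocFreeOfRank_pullback t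
          ((ConsPropLib.isFinLocFreeOfRank_iso ((Scheme.Modules.restrictFunctorIsoPullback (V y).ι).app G)).1
            fun x => ⟨⊤, trivial, ⟨(Scheme.Modules.restrictFunctor (⊤ : (V y : Scheme.{u}).Opens).ι).mapIso
              ((Scheme.Modules.restrictFunctor (V y).ι).mapIso i.symm ≪≫ (e y).some) ≪≫ QCoh.freeModRestrict _ _⟩⟩))
    haveI := hgu y
    have h2 : FlatMod.IsFinLocFreeOfRank 1 ((Scheme.Modules.pullback (Y.fromSpecResidueField y)).obj G) :=
      (ConsPropLib.isFinLocFreeOfRank_iso (asIso ((Scheme.Modules.pullback (Y.fromSpecResidueField y)).map u))).1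
        (TFOneX.isFinLocFreeOfRank_pullback _ (hone Y))
    let pt : ↥(Spec (Y.residueField y)) := IsLocalRing.closedPoint (Y.residueField y)
    exact ((ConsPropLib.isFinLocFreeOfRank_iff.1 h1).2 pt).symm.trans ((ConsPropLib.isFinLocFreeOfRank_iff.1 h2).2 pt)
  have hG1 : FlatMod.IsFinLocFreeOfRank 1 G := fun y => ⟨V y, hV y,
    ⟨(Scheme.Modules.restrictFunctor (V y).ι).mapIso i.symm ≪≫ (e y).some ≪≫ eqToIso (by rw [hn y])⟩⟩
  haveI : Epi u := by
    have hGfp := QCoh.isFP_of_isFinLocFree hlfG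
    have hC := QCoh.isQCoh_cokernel (hinv Y |> fun h => (QCoh.isQCoh_of_isFinLocFree fun x => (hone Y x).elim fun U h => ⟨U, 1, h⟩))
      (QCoh.isQCoh_of_isFP hGfp) u
    have hCft : CohB1.IsFT (cokernel u) := RelPC17.isFT_of_epi' (cokernel.π u) (QCoh.isFT_of_isFP hGfp)
    refine Abelian.epi_of_cokernel_π_eq_zero _ (IsZero.eq_of_tgt (isZero_of_fibres hC hCft fun y => ?_) _ _)
    haveI := hgu y
    exact IsZero.of_iso (isZero_cokernel_of_epi _) (PreservesCokernel.iso (Scheme.Modules.pullback (Y.fromSpecResidueField y)) u)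
  haveI := isIso_of_epi_rank (hone Y) hG1 u
  haveI := CohPullX.isIso_bc0_of_hasKerBC hT hq fun t => ⟨V (g t), hV _, hk _⟩
  refine bijective_app_of_iso fT ?_ W
  exact (unitIso g).symm ≪≫ (Scheme.Modules.pullback g).mapIso (asIso u) ≪≫
    asIso (CohBC.bc0 f g fT gT hT.w (Coh.structureModule X)) ≪≫ (Scheme.Modules.pushforward fT).mapIso (unitIso gT)

end Groth.Agent.SeesawX
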