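import Groth.Agent.SeesawX.Main
import Groth.Agent.H23.RigidGamma
import Groth.Agent.LocRepX.Sub
import Groth.Agent.H28.FlatPr

/-!
# The seesaw subscheme of a vector bundle of varying rank
-/

set_option autoImplicit false
set_option linter.style.haveILetI false
set_option linter.unusedSectionVars false
set_option backward.isDefEq.respectTransparency false
set_option backward.isDefEq.respectTransparency.types false
set_option maxHeartbeats 1000000

universe u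

open CategoryTheory CategoryTheory.Limits AlgebraicGeometry TopologicalSpace Opposite Topology

namespace Groth.Agent.SeesawX

open Groth.Agent

theorem rank_unique {Y : Scheme.{u}} (y : Y) {M : Y.Modules} {m n : ℕ} (hm : FlatMod.IsFinLocFreeOfRank m M)
    (hn : FlatMod.IsFinLocFreeOfRank n M) : m = n :=
  ((ConsPropLib.isFinLocFreeOfRank_iff.1 hm).2 y).symm.trans ((ConsPropLib.isFinLocFreeOfRank_iff.1 hn).2 y)

theorem isOpen_rank {Y : Scheme.{u}} {M : Y.Modules} (h : FlatMod.IsFinLocFree M) (n : ℕ) :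
    IsClopen {y : Y | Module.finrank (Y.presheaf.stalk y) (M.presheaf.stalk y) = n} := by
  have key : ∀ y, ∃ U : Y.Opens, y ∈ U ∧ ∀ z ∈ U,
      Module.finrank (Y.presheaf.stalk z) (M.presheaf.stalk z) = Module.finrank (Y.presheaf.stalk y) (M.presheaf.stalk y) := fun y => by
    obtain ⟨U, m, hy, ⟨e⟩⟩ := h y
    obtain ⟨_, ⟨W, hW, rfl⟩, hyW, hle⟩ :=
      Y.isBasis_affineOpens.exists_subset_of_mem_open (show y ∈ U from hy) U.2
    obtain ⟨l⟩ := QCoh.exists_linearEquiv_of_freeIso (QCoh.freeChart hW hle e)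
    have hz : ∀ z ∈ (W : Set Y), Module.finrank (Y.presheaf.stalk z) (M.presheaf.stalk z) = m := fun z hz =>
      QCoh.finrank_stalk_of_freeChart hW (QCoh.isQCoh_of_isFinLocFree h) ((QCoh.chartEquiv hW M).trans l) hz
    exact ⟨W, hyW, fun z hz' => (hz z hz').trans (hz y hyW).symm⟩
  refine ⟨⟨?_⟩, ?_⟩ <;> rw [isOpen_iff_forall_mem_open] <;> intro y hy <;> obtain ⟨U, hyU, hU⟩ := key y
  · exact ⟨U, fun z hz h' => hy ((hU z hz).symm.trans h'), U.isOpen, hyU⟩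
  · exact ⟨U, fun z hz => (hU z hz).trans hy, U.isOpen, hyU⟩

theorem isFinLocFreeOfRank_restrict_iff {Y : Scheme.{u}} {M : Y.Modules} (h : FlatMod.IsFinLocFree M) (O : Y.Opens) (n : ℕ) :
    FlatMod.IsFinLocFreeOfRank n ((Scheme.Modules.pullback O.ι).obj M) ↔
      ∀ y ∈ O, Module.finrank (Y.presheaf.stalk y) (M.presheaf.stalk y) = n := by
  constructor
  · intro hO y hy
    obtain ⟨U, m, hyU, ⟨e⟩⟩ := h y
    have hm : FlatMod.IsFinLocFreeOfRank m ((Scheme.Modules.pullback U.ι).obj M) :=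
      (ConsPropLib.isFinLocFreeOfRank_iso ((Scheme.Modules.restrictFunctorIsoPullback U.ι).app M)).1
        fun x => ⟨⊤, trivial, ⟨(Scheme.Modules.restrictFunctor (⊤ : (U : Scheme.{u}).Opens).ι).mapIso e ≪≫
          QCoh.freeModRestrict _ _⟩⟩
    have h₁ := TFOneX.isFinLocFreeOfRank_pullback (Y.homOfLE (inf_le_left : O ⊓ U ≤ O)) hO
    have h₂ := TFOneX.isFinLocFreeOfRank_pullback (Y.homOfLE (inf_le_right : O ⊓ U ≤ U)) hm
    have e₁ := (Scheme.Modules.pullbackComp (Y.homOfLE (inf_le_left : O ⊓ U ≤ O)) O.ι).app M ≪≫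
      (Scheme.Modules.pullbackCongr (Y.homOfLE_ι (inf_le_left : O ⊓ U ≤ O))).app M
    have e₂ := (Scheme.Modules.pullbackComp (Y.homOfLE (inf_le_right : O ⊓ U ≤ U)) U.ι).app M ≪≫
      (Scheme.Modules.pullbackCongr (Y.homOfLE_ι (inf_le_right : O ⊓ U ≤ U))).app M
    obtain rfl : m = n := rank_unique (⟨y, hy, hyU⟩ : ↥(O ⊓ U)) ((ConsPropLib.isFinLocFreeOfRank_iso e₂).1 h₂)
      ((ConsPropLib.isFinLocFreeOfRank_iso e₁).1 h₁)
    obtain ⟨_, ⟨W, hW, rfl⟩, hyW, hle⟩ :=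
      Y.isBasis_affineOpens.exists_subset_of_mem_open (show y ∈ U from hyU) U.2
    obtain ⟨l⟩ := QCoh.exists_linearEquiv_of_freeIso (QCoh.freeChart hW hle e)
    exact QCoh.finrank_stalk_of_freeChart hW (QCoh.isQCoh_of_isFinLocFree h) ((QCoh.chartEquiv hW M).trans l) hyW
  · intro hO x
    obtain ⟨U, m, hxU, ⟨e⟩⟩ := h x.1
    obtain ⟨_, ⟨W, hW, rfl⟩, hyW, hle⟩ :=
      Y.isBasis_affineOpens.exists_subset_of_mem_open (show x.1 ∈ U from hxU) U.2
    obtain ⟨l⟩ := QCoh.exists_linearEquiv_of_freeIso (QCoh.freeChart hW hle e)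
    obtain rfl : m = n := (QCoh.finrank_stalk_of_freeChart hW (QCoh.isQCoh_of_isFinLocFree h)
      ((QCoh.chartEquiv hW M).trans l) hyW).symm.trans (hO x.1 x.2)
    refine ⟨O.ι ⁻¹ᵁ U, hxU, ⟨?_⟩⟩
    exact (Scheme.Modules.restrictFunctor _).mapIso ((Scheme.Modules.restrictFunctorIsoPullback O.ι).app M).symm ≪≫
      QCoh.restrictRestrict M _ _ ≪≫ (Scheme.Modules.restrictFunctorCongr (morphismRestrict_ι O.ι U).symm).app M ≪≫
      (QCoh.restrictRestrict M _ _).symm ≪≫ (Scheme.Modules.restrictFunctor (O.ι ∣_ U)).mapIso e ≪≫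
      QCoh.freeModRestrict _ _

theorem finrank_stalk_eq_of_rank {Y : Scheme.{u}} {M : Y.Modules} {n : ℕ} (h : FlatMod.IsFinLocFreeOfRank n M) (y : Y) :
    Module.finrank (Y.presheaf.stalk y) (M.presheaf.stalk y) = n :=
  (ConsPropLib.isFinLocFreeOfRank_iff.1 h).2 y

theorem isFinLocFree_pullback {Y Y' : Scheme.{u}} (g : Y' ⟶ Y) {M : Y.Modules} (h : FlatMod.IsFinLocFree M) :
    FlatMod.IsFinLocFree ((Scheme.Modules.pullback g).obj M) := by
  intro x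
  obtain ⟨U, m, hU, ⟨e⟩⟩ := h (g x)
  have hm : FlatMod.IsFinLocFreeOfRank m ((Scheme.Modules.pullback U.ι).obj M) :=
    (ConsPropLib.isFinLocFreeOfRank_iso ((Scheme.Modules.restrictFunctorIsoPullback U.ι).app M)).1
      fun z => ⟨⊤, trivial, ⟨(Scheme.Modules.restrictFunctor (⊤ : (U : Scheme.{u}).Opens).ι).mapIso e ≪≫
        QCoh.freeModRestrict _ _⟩⟩
  obtain ⟨O, hO, ⟨e'⟩⟩ := (ConsPropLib.isFinLocFreeOfRank_iso ((Scheme.Modules.pullbackComp (g ∣_ U) U.ι).app M ≪≫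
      (Scheme.Modules.pullbackCongr (morphismRestrict_ι g U)).app M ≪≫
      ((Scheme.Modules.pullbackComp _ _).app M).symm ≪≫
      ((Scheme.Modules.restrictFunctorIsoPullback (g ⁻¹ᵁ U).ι).app ((Scheme.Modules.pullback g).obj M)).symm)).1
    (TFOneX.isFinLocFreeOfRank_pullback (g ∣_ U) hm) ⟨x, hU⟩
  let q : (((g ⁻¹ᵁ U).ι ''ᵁ O : Y'.Opens) : Scheme.{u}) ⟶ O := ((g ⁻¹ᵁ U).ι.isoImage O).inv
  have hq : q ≫ O.ι ≫ (g ⁻¹ᵁ U).ι = ((g ⁻¹ᵁ U).ι ''ᵁ O).ι := by simp [q]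
  exact ⟨(g ⁻¹ᵁ U).ι ''ᵁ O, m, ⟨⟨x, hU⟩, hO, rfl⟩,
    ⟨(Scheme.Modules.restrictFunctorCongr hq.symm).app _ ≪≫ (QCoh.restrictRestrict _ q (O.ι ≫ (g ⁻¹ᵁ U).ι)).symm ≪≫
      (Scheme.Modules.restrictFunctor q).mapIso ((QCoh.restrictRestrict _ O.ι (g ⁻¹ᵁ U).ι).symm ≪≫ e') ≪≫
      QCoh.freeModRestrict _ m⟩⟩

variable {X S : Scheme.{u}} {f : X ⟶ S} [IsProper f] [Flat f] [LocallyOfFinitePresentation f]

/-- The rank of a bundle which is constant on connected fibres gives a clopen partition of the base. -/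
theorem exists_rank_cover [GeometricallyConnected f] {E : X.Modules} (hE : FlatMod.IsFinLocFree E) :
    ∃ V : ULift.{u} ℕ → S.Opens, (⨆ n, V n = ⊤) ∧
      ∀ n, FlatMod.IsFinLocFreeOfRank n.down ((Scheme.Modules.pullback (f ⁻¹ᵁ V n).ι).obj E) := by
  let K : ℕ → Set X := fun n => {x | Module.finrank (X.presheaf.stalk x) (E.presheaf.stalk x) = n}
  have hfib : ∀ (s : S), ConnectedSpace ↥(f.fiber s) := fun s =>
    GeometricallyConnected.geometrically_connectedSpace (f := f) _ _ _ (.of_hasPullback _ _)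
  have hconst : ∀ x y : X, f x = f y → ∀ n, x ∈ K n → y ∈ K n := fun x y hxy n hx => by
    haveI := hfib (f x)
    obtain ⟨a, ha⟩ : x ∈ Set.range (f.fiberι (f x)) := by rw [Scheme.Hom.range_fiberι]; exact rfl
    obtain ⟨b, hb⟩ : y ∈ Set.range (f.fiberι (f x)) := by rw [Scheme.Hom.range_fiberι]; exact hxy.symm
    have hc : IsClopen ((f.fiberι (f x)) ⁻¹' K n) := (isOpen_rank hE n).preimage (f.fiberι (f x)).continuous
    have := hc.eq_univ ⟨a, show f.fiberι (f x) a ∈ K n from ha.symm ▸ hx⟩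
    exact hb ▸ (show b ∈ (f.fiberι (f x)) ⁻¹' K n by rw [this]; trivial)
  let V : ULift.{u} ℕ → S.Opens := fun n => ⟨f '' K n.down, f.isOpenMap _ (isOpen_rank hE n.down).isOpen⟩
  refine ⟨V, top_unique fun s _ => ?_, fun n => ?_⟩
  · haveI := hfib s
    obtain ⟨a⟩ := (inferInstance : Nonempty ↥(f.fiber s))
    refine Opens.mem_iSup.2 ⟨⟨_⟩, f.fiberι s a, rfl, ?_⟩
    have : f.fiberι s a ∈ Set.range (f.fiberι s) := ⟨a, rfl⟩
    rwa [Scheme.Hom.range_fiberι] at this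
  · exact (isFinLocFreeOfRank_restrict_iff hE _ _).2 fun y ⟨x, hx, hxy⟩ => hconst x y hxy _ hx

/-- Pieces of a pullback of the family. -/
theorem isPullback_piece {T XT : Scheme.{u}} {u : T ⟶ S} {fT : XT ⟶ T} {gT : XT ⟶ X} (hT : IsPullback gT fT f u)
    (V : S.Opens) (O : T.Opens) (hO : O ≤ u ⁻¹ᵁ V) :
    IsPullback (gT.resLE (f ⁻¹ᵁ V) (fT ⁻¹ᵁ O) (by
        rw [← Scheme.Hom.comp_preimage, hT.w, Scheme.Hom.comp_preimage]; exact fT.preimage_mono hO))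
      (fT ∣_ O) (f ∣_ V) (u.resLE V O hO) := by
  refine IsPullback.of_right ?_ ?_ (isPullback_morphismRestrict f V).flip
  · rw [Scheme.Hom.resLE_comp_ι, Scheme.Hom.resLE_comp_ι]
    exact (isPullback_morphismRestrict fT O).flip.paste_horiz hT
  · rw [← cancel_mono V.ι, Category.assoc, Category.assoc, morphismRestrict_ι, Scheme.Hom.resLE_comp_ι,
      Scheme.Hom.resLE_comp_ι_assoc, morphismRestrict_ι_assoc, hT.w]

/-- The seesaw subscheme of a vector bundle. -/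
theorem exists_seesaw_finLocFree [GeometricallyConnected f] [GeometricallyReduced f] {E : X.Modules}
    (hE : FlatMod.IsFinLocFree E) :
    ∃ (Z : Scheme.{u}) (ι : Z ⟶ S), IsImmersion ι ∧ LocallyOfFinitePresentation ι ∧ QuasiCompact ι ∧
      ∀ ⦃T XT : Scheme.{u}⦄ (u : T ⟶ S) (fT : XT ⟶ T) (gT : XT ⟶ X), IsPullback gT fT f u →
        ((∃ l : T ⟶ Z, l ≫ ι = u) ↔ ∃ M : T.Modules, FlatMod.IsFinLocFree M ∧
          Nonempty ((Scheme.Modules.pullback gT).obj E ≅ (Scheme.Modules.pullback fT).obj M)) := by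
  have hcf := H23.RigidGamma.constFibres f
  have hu : UnivPush f := fun T XT g fT gT h W => bijective_app_baseChange f hcf h W
  obtain ⟨V, hV, hrk⟩ := exists_rank_cover (f := f) hE
  have hseesaw : ∀ n, ∃ (Z : Scheme.{u}) (z : Z ⟶ (V n : Scheme.{u})),
      (IsImmersion z ∧ LocallyOfFinitePresentation z ∧ QuasiCompact z) ∧
      ∀ ⦃T XT : Scheme.{u}⦄ (u : T ⟶ (V n : Scheme.{u})) (fT : XT ⟶ T) (gT : XT ⟶ ((f ⁻¹ᵁ V n : X.Opens) : Scheme.{u})),
        IsPullback gT fT (f ∣_ V n) u →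
          ((∃ l : T ⟶ Z, l ≫ z = u) ↔ FromBase ((Scheme.Modules.pullback (f ⁻¹ᵁ V n).ι).obj E) n.down fT gT) := fun n => by
    haveI : IsProper (f ∣_ V n) := IsZariskiLocalAtTarget.restrict ‹_› _
    haveI : LocallyOfFinitePresentation (f ∣_ V n) := IsZariskiLocalAtTarget.restrict ‹_› _
    haveI : Flat (f ∣_ V n) := IsZariskiLocalAtTarget.restrict ‹_› _
    have hu' : UnivPush (f ∣_ V n) := fun T XT g fT gT h W =>
      hu (g ≫ (V n).ι) fT (gT ≫ (f ⁻¹ᵁ V n).ι) (h.paste_horiz (isPullback_morphismRestrict f (V n)).flip) W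
    have hfl : FlatMod.IsFlatOver f E := H28.FlatPr.isFlatOver_of_isFinLocFree f hE
    have hfl' : FlatMod.IsFlatOver (f ∣_ V n) ((Scheme.Modules.pullback (f ⁻¹ᵁ V n).ι).obj E) := fun x =>
      MorLib.FlatBC.isFlatOverAt_baseChange f (f ∣_ V n) (f ⁻¹ᵁ V n).ι (V n).ι (isPullback_morphismRestrict f (V n)).flip E x (hfl _)
    obtain ⟨Z, z, h₁, h₂, h₃, h⟩ := exists_seesaw hu' (hrk n) hfl'
    exact ⟨Z, z, ⟨h₁, h₂, h₃⟩, h⟩
  choose Z z hz hzu using hseesaw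
  haveI : ∀ n, IsImmersion (z n) := fun n => (hz n).1
  let P : ∀ ⦃T : Scheme.{u}⦄, (T ⟶ S) → Prop := fun T u => ∀ n, ∃ l, l ≫ z n = u ∣_ V n
  have hdisj : ∀ {s : S} {m n}, s ∈ V m → s ∈ V n → m = n := fun {s m n} hm hn => by
    haveI : ConnectedSpace ↥(f.fiber s) :=
      GeometricallyConnected.geometrically_connectedSpace (f := f) _ _ _ (.of_hasPullback _ _)
    obtain ⟨a⟩ := (inferInstance : Nonempty ↥(f.fiber s))
    have hx : f (f.fiberι s a) = s := by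
      have : f.fiberι s a ∈ Set.range (f.fiberι s) := ⟨a, rfl⟩
      rwa [Scheme.Hom.range_fiberι] at this
    exact ULift.ext _ _ (((isFinLocFreeOfRank_restrict_iff hE _ _).1 (hrk m) _ (hx.symm ▸ hm : f (f.fiberι s a) ∈ V m)).symm.trans
      ((isFinLocFreeOfRank_restrict_iff hE _ _).1 (hrk n) _ (hx.symm ▸ hn : f (f.fiberι s a) ∈ V n)))
  have hstab : ∀ ⦃T T' : Scheme.{u}⦄ (a : T' ⟶ T) (u : T ⟶ S), P u → P (a ≫ u) := fun T T' a u h n => by
    obtain ⟨l, hl⟩ := h n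
    exact ⟨a ∣_ (u ⁻¹ᵁ V n) ≫ l, by rw [morphismRestrict_comp, Category.assoc, hl]⟩
  have hloc : ∀ ⦃T : Scheme.{u}⦄ (𝒰 : Scheme.OpenCover.{u} T) (u : T ⟶ S), (∀ i, P (𝒰.f i ≫ u)) → P u := by
    intro T 𝒰 u h n
    choose l hl using fun i => h i n
    let 𝒱 : Scheme.OpenCover.{u} ((u ⁻¹ᵁ V n : T.Opens) : Scheme.{u}) :=
      Scheme.Cover.mkOfCovers 𝒰.I₀ (fun i => ((𝒰.f i ⁻¹ᵁ (u ⁻¹ᵁ V n) : (𝒰.X i).Opens) : Scheme.{u}))
        (fun i => 𝒰.f i ∣_ (u ⁻¹ᵁ V n)) (fun x => by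
          obtain ⟨i, t, ht⟩ := 𝒰.exists_eq x.1
          refine ⟨i, ⟨t, show u (𝒰.f i t) ∈ V n from ht ▸ x.2⟩, Subtype.ext ?_⟩
          exact (congr($(morphismRestrict_ι (𝒰.f i) (u ⁻¹ᵁ V n)) _)).trans ht) fun i => inferInstance
    have hl' : ∀ i, l i ≫ z n = 𝒱.f i ≫ u ∣_ V n := fun i => by
      rw [hl i, morphismRestrict_comp]; rfl
    refine ⟨𝒱.glueMorphisms l fun i j => ?_, 𝒱.hom_ext _ _ fun i => ?_⟩
    · rw [← cancel_mono (z n), Category.assoc, Category.assoc, hl', hl', pullback.condition_assoc]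
    · rw [Scheme.Cover.ι_glueMorphisms_assoc, hl']
  obtain ⟨W, j, -, huniv, hQ⟩ := LocRepX.exists_representing P hstab hloc V hV Z z fun n T v => by
    constructor
    · rintro ⟨l, hl⟩ m
      by_cases hmn : m = n
      · subst hmn
        refine ⟨(((v ≫ (V m).ι) ⁻¹ᵁ V m : T.Opens)).ι ≫ l, ?_⟩
        rw [Category.assoc, hl, ← cancel_mono (V m).ι, morphismRestrict_ι, Category.assoc]
      · haveI : IsEmpty ((((v ≫ (V n).ι) ⁻¹ᵁ V m : T.Opens)) : Scheme.{u}) :=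
          ⟨fun t => hmn (hdisj t.2 (v t.1).2)⟩
        exact ⟨(isInitialOfIsEmpty).to _, (isInitialOfIsEmpty).hom_ext _ _⟩
    · intro h
      obtain ⟨l, hl⟩ := h n
      have htop : (v ≫ (V n).ι) ⁻¹ᵁ V n = ⊤ := top_unique fun t _ => (v t).2
      haveI : IsIso (((v ≫ (V n).ι) ⁻¹ᵁ V n : T.Opens)).ι := by
        rw [htop]; exact inferInstanceAs (IsIso T.topIso.hom)
      refine ⟨inv (((v ≫ (V n).ι) ⁻¹ᵁ V n : T.Opens)).ι ≫ l, ?_⟩
      rw [Category.assoc, hl, IsIso.inv_comp_eq, ← cancel_mono (V n).ι, morphismRestrict_ι, Category.assoc]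
  haveI : IsImmersion j := hQ @IsImmersion fun n => (hz n).1
  refine ⟨W, j, inferInstance, hQ @LocallyOfFinitePresentation fun n => (hz n).2.1, hQ @QuasiCompact fun n => (hz n).2.2,
    fun T XT u fT gT hT => (huniv u).trans ?_⟩
  let piece := fun n => isPullback_piece hT (V n) (u ⁻¹ᵁ V n) le_rfl
  have hres : ∀ n, u.resLE (V n) (u ⁻¹ᵁ V n) le_rfl = u ∣_ V n := fun n => by
    rw [← cancel_mono (V n).ι, Scheme.Hom.resLE_comp_ι, morphismRestrict_ι]
  let eres : ∀ n : ULift.{u} ℕ, (Scheme.Modules.pullback (gT.resLE (f ⁻¹ᵁ V n) (fT ⁻¹ᵁ (u ⁻¹ᵁ V n)) (by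
        rw [← Scheme.Hom.comp_preimage, ← Scheme.Hom.comp_preimage, hT.w]))).obj ((Scheme.Modules.pullback (f ⁻¹ᵁ V n).ι).obj E) ≅
      (Scheme.Modules.pullback (fT ⁻¹ᵁ (u ⁻¹ᵁ V n)).ι).obj ((Scheme.Modules.pullback gT).obj E) := fun n =>
    (Scheme.Modules.pullbackComp _ _).app E ≪≫ (Scheme.Modules.pullbackCongr (Scheme.Hom.resLE_comp_ι _ _)).app E ≪≫
      ((Scheme.Modules.pullbackComp _ _).app E).symm
  constructor
  · intro hP
    let ET := (Scheme.Modules.pullback gT).obj E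
    have hf := hu u fT gT hT
    have hcov : ∀ t : T, ∃ n, t ∈ u ⁻¹ᵁ V n := fun t => by
      obtain ⟨n, hn⟩ := Opens.mem_iSup.1 (hV.ge (show u t ∈ (⊤ : S.Opens) from trivial))
      exact ⟨n, hn⟩
    have hpiece : ∀ n, ∃ M, FlatMod.IsFinLocFree M ∧
        Nonempty (ET.restrict (fT ⁻¹ᵁ (u ⁻¹ᵁ V n)).ι ≅ (Scheme.Modules.pullback (fT ∣_ (u ⁻¹ᵁ V n))).obj M) := fun n => by
      obtain ⟨l, hl⟩ := hP n
      obtain ⟨M, hM, ⟨e⟩⟩ := (hzu n _ _ _ (piece n)).1 ⟨l, hl.trans (hres n).symm⟩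
      exact ⟨M, fun x => (hM x).elim fun U h => ⟨U, _, h⟩,
        ⟨(Scheme.Modules.restrictFunctorIsoPullback _).app ET ≪≫ (eres n).symm ≪≫ e⟩⟩
    have hc : IsIso ((Scheme.Modules.pullbackPushforwardAdjunction fT).counit.app ET) := by
      refine H23.ModLoc.isIso_of_locally _ fun x => ?_
      obtain ⟨n, hn⟩ := hcov (fT x)
      obtain ⟨M, hM, ⟨e⟩⟩ := hpiece n
      refine ⟨fT ⁻¹ᵁ (u ⁻¹ᵁ V n), hn, H23.PullPush.isIso_restrict_counit fT _ ET ?_⟩
      exact (NatTrans.isIso_app_iff_of_iso _ e).2 (H23.PullPush.isIso_counit_pullback_of_isFinLocFree _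
        (H23.PullPush.app_morphismRestrict_bijective fT hf _) M hM)
    refine ⟨(Scheme.Modules.pushforward fT).obj ET, fun t => ?_, ⟨(@asIso _ _ _ _ _ hc).symm⟩⟩
    obtain ⟨n, hn⟩ := hcov t
    obtain ⟨M, hM, ⟨e⟩⟩ := hpiece n
    let O := u ⁻¹ᵁ V n
    haveI := H23.PullPush.isIso_unit_of_isFinLocFree (fT ∣_ O) (H23.PullPush.app_morphismRestrict_bijective fT hf O) M hM
    have hG : FlatMod.IsFinLocFree (((Scheme.Modules.pushforward fT).obj ET).restrict O.ι) :=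
      H23.PullPush.isFinLocFree_of_iso (asIso ((Scheme.Modules.pullbackPushforwardAdjunction (fT ∣_ O)).unit.app M) ≪≫
        (Scheme.Modules.pushforward (fT ∣_ O)).mapIso e.symm ≪≫ (asIso ((H23.PullPush.pushRestrict fT O).app ET)).symm) hM
    obtain ⟨U, m, hU, ⟨e'⟩⟩ := hG ⟨t, hn⟩
    let q : ((O.ι ''ᵁ U : T.Opens) : Scheme.{u}) ⟶ U := (O.ι.isoImage U).inv
    have hq : q ≫ U.ι ≫ O.ι = (O.ι ''ᵁ U).ι := by simp [q]
    exact ⟨O.ι ''ᵁ U, m, ⟨⟨t, hn⟩, hU, rfl⟩,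
      ⟨(Scheme.Modules.restrictFunctorCongr hq.symm).app _ ≪≫ (QCoh.restrictRestrict _ q (U.ι ≫ O.ι)).symm ≪≫
        (Scheme.Modules.restrictFunctor q).mapIso ((QCoh.restrictRestrict _ U.ι O.ι).symm ≪≫ e') ≪≫
        QCoh.freeModRestrict _ m⟩⟩
  · rintro ⟨M, hM, ⟨e⟩⟩ n
    let O := u ⁻¹ᵁ V n
    let M' := (Scheme.Modules.pullback O.ι).obj M
    let i : (Scheme.Modules.pullback (fT ∣_ O)).obj M' ≅ (Scheme.Modules.pullback (fT ⁻¹ᵁ O).ι).obj ((Scheme.Modules.pullback fT).obj M) :=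
      (Scheme.Modules.pullbackComp _ _).app M ≪≫ (Scheme.Modules.pullbackCongr (morphismRestrict_ι fT O)).app M ≪≫
        ((Scheme.Modules.pullbackComp _ _).app M).symm
    suffices hr : ∀ t ∈ O, Module.finrank (T.presheaf.stalk t) (M.presheaf.stalk t) = n.down by
      obtain ⟨l, hl⟩ := (hzu n _ _ _ (piece n)).2 ⟨M', (isFinLocFreeOfRank_restrict_iff hM O _).2 hr,
        ⟨eres n ≪≫ (Scheme.Modules.pullback _).mapIso e ≪≫ i.symm⟩⟩
      exact ⟨l, hl.trans (hres n)⟩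
    -- the rank of `M` at `t` is the rank of `E` on the fibre
    intro t ht
    haveI : Surjective f := ⟨fun s => by
      haveI : ConnectedSpace ↥(f.fiber s) :=
        GeometricallyConnected.geometrically_connectedSpace (f := f) _ _ _ (.of_hasPullback _ _)
      obtain ⟨a⟩ := (inferInstance : Nonempty ↥(f.fiber s))
      have : f.fiberι s a ∈ Set.range (f.fiberι s) := ⟨a, rfl⟩
      rw [Scheme.Hom.range_fiberι] at this
      exact ⟨_, this⟩⟩
    haveI : Surjective fT := MorphismProperty.of_isPullback hT ‹_›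
    obtain ⟨x, rfl⟩ := fT.surjective t
    obtain ⟨U, m, htU, ⟨eU⟩⟩ := hM (fT x)
    have hm : FlatMod.IsFinLocFreeOfRank m ((Scheme.Modules.pullback U.ι).obj M) :=
      (ConsPropLib.isFinLocFreeOfRank_iso ((Scheme.Modules.restrictFunctorIsoPullback U.ι).app M)).1
        fun z => ⟨⊤, trivial, ⟨(Scheme.Modules.restrictFunctor (⊤ : (U : Scheme.{u}).Opens).ι).mapIso eU ≪≫
          QCoh.freeModRestrict _ _⟩⟩
    rw [(isFinLocFreeOfRank_restrict_iff hM U m).1 hm (fT x) htU]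
    -- two ranks at `x`
    have h₁ : FlatMod.IsFinLocFreeOfRank n.down
        ((Scheme.Modules.pullback (fT ⁻¹ᵁ O).ι).obj ((Scheme.Modules.pullback gT).obj E)) :=
      (ConsPropLib.isFinLocFreeOfRank_iso (eres n)).1 (TFOneX.isFinLocFreeOfRank_pullback _ (hrk n))
    let k : ((fT ⁻¹ᵁ U : XT.Opens) : Scheme.{u}) ⟶ (U : Scheme.{u}) := fT ∣_ U
    have h₂ : FlatMod.IsFinLocFreeOfRank m ((Scheme.Modules.pullback (fT ⁻¹ᵁ U).ι).obj ((Scheme.Modules.pullback gT).obj E)) :=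
      (ConsPropLib.isFinLocFreeOfRank_iso ((Scheme.Modules.pullbackComp k U.ι).app M ≪≫
        (Scheme.Modules.pullbackCongr (morphismRestrict_ι fT U)).app M ≪≫
        ((Scheme.Modules.pullbackComp _ _).app M).symm ≪≫ (Scheme.Modules.pullback _).mapIso e.symm)).1
        (TFOneX.isFinLocFreeOfRank_pullback k hm)
    have hET : FlatMod.IsFinLocFree ((Scheme.Modules.pullback gT).obj E) := isFinLocFree_pullback gT hE
    exact ((isFinLocFreeOfRank_restrict_iff hET _ _).1 h₂ x htU).symm.trans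
      ((isFinLocFreeOfRank_restrict_iff hET _ _).1 h₁ x ht)

end Groth.Agent.SeesawX

namespace Groth.Agent.SeesawX

open Groth.Agent

theorem mem_range_iff_factor {Z S : Scheme.{u}} (j : Z ⟶ S) [IsPreimmersion j] (s : S) :
    s ∈ Set.range j ↔ ∃ l, l ≫ j = S.fromSpecResidueField s := by
  refine ⟨?_, fun ⟨l, hl⟩ => ⟨l (IsLocalRing.closedPoint (S.residueField s)), by
    rw [← Scheme.Hom.comp_apply, hl, Scheme.fromSpecResidueField_apply]⟩⟩
  rintro ⟨z, rfl⟩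
  haveI : IsIso (j.residueFieldMap z) :=
    (ConcreteCategory.isIso_iff_bijective _).2 ⟨(j.residueFieldMap z).hom.injective, fun a => by
      obtain ⟨b, rfl⟩ := Z.residue_surjective z a
      obtain ⟨c, rfl⟩ := j.stalkMap_surjective z b
      exact ⟨S.residue (j z) c, congr($(Scheme.residue_residueFieldMap j z) c)⟩⟩
  exact ⟨inv (Spec.map (j.residueFieldMap z)) ≫ Z.fromSpecResidueField z, by
    rw [Category.assoc, IsIso.inv_comp_eq, Scheme.Hom.SpecMap_residueFieldMap_fromSpecResidueField]⟩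

/-- Pullbacks of free modules are free. -/
noncomputable def freePullIso {Y Y' : Scheme.{u}} (g : Y' ⟶ Y) (n : ℕ) :
    (Scheme.Modules.pullback g).obj (FlatMod.freeMod Y n) ≅ FlatMod.freeMod Y' n :=
  PreservesCoproduct.iso (Scheme.Modules.pullback g) _ ≪≫ Sigma.mapIso fun _ => unitIso g

theorem exists_free_iso_of_field {K : Type u} [Field K] {M : (Spec (CommRingCat.of K)).Modules}
    (hM : FlatMod.IsFinLocFree M) : ∃ n, Nonempty (M ≅ FlatMod.freeMod (Spec (CommRingCat.of K)) n) := by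
  haveI : Subsingleton (Spec (CommRingCat.of K)) := inferInstanceAs (Subsingleton (PrimeSpectrum K))
  obtain ⟨U, n, hU, ⟨e⟩⟩ := hM (IsLocalRing.closedPoint K)
  obtain rfl : U = ⊤ := top_le_iff.1 fun z _ => (Subsingleton.elim _ z) ▸ hU
  haveI : IsIso (⊤ : (Spec (CommRingCat.of K)).Opens).ι := inferInstanceAs (IsIso (Spec (CommRingCat.of K)).topIso.hom)
  let t := (⊤ : (Spec (CommRingCat.of K)).Opens).ι
  exact ⟨n, ⟨((Scheme.Modules.pullbackId _).app M).symm ≪≫ (Scheme.Modules.pullbackCongr (IsIso.inv_hom_id t).symm).app M ≪≫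
    ((Scheme.Modules.pullbackComp (inv t) t).app M).symm ≪≫
    (Scheme.Modules.pullback (inv t)).mapIso (((Scheme.Modules.restrictFunctorIsoPullback t).app M).symm ≪≫ e) ≪≫
    freePullIso _ n⟩⟩

theorem isFinLocFree_freeMod (Y : Scheme.{u}) (n : ℕ) : FlatMod.IsFinLocFree (FlatMod.freeMod Y n) :=
  fun _ => ⟨⊤, n, trivial, ⟨QCoh.freeModRestrict _ n⟩⟩

theorem range_eq_free_fibre {X S Z : Scheme.{u}} {f : X ⟶ S} {E : X.Modules} (j : Z ⟶ S) [IsImmersion j]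
    (h : ∀ ⦃T XT : Scheme.{u}⦄ (u : T ⟶ S) (fT : XT ⟶ T) (gT : XT ⟶ X), IsPullback gT fT f u →
        ((∃ l : T ⟶ Z, l ≫ j = u) ↔ ∃ M : T.Modules, FlatMod.IsFinLocFree M ∧
          Nonempty ((Scheme.Modules.pullback gT).obj E ≅ (Scheme.Modules.pullback fT).obj M))) :
    Set.range j = {s : S | ∃ n : ℕ, Nonempty ((Scheme.Modules.pullback (f.fiberι s)).obj E ≅ FlatMod.freeMod (f.fiber s) n)} := by
  ext s
  rw [mem_range_iff_factor, h (S.fromSpecResidueField s) (f.fiberToSpecResidueField s) (f.fiberι s)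
    (IsPullback.of_hasPullback f (S.fromSpecResidueField s))]
  constructor
  · rintro ⟨M, hM, ⟨e⟩⟩
    obtain ⟨n, ⟨e'⟩⟩ := exists_free_iso_of_field hM
    exact ⟨n, ⟨e ≪≫ (Scheme.Modules.pullback _).mapIso e' ≪≫ freePullIso _ n⟩⟩
  · rintro ⟨n, ⟨e⟩⟩
    exact ⟨_, isFinLocFree_freeMod _ n, ⟨e ≪≫ (freePullIso _ n).symm⟩⟩

end Groth.Agent.SeesawX
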