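import Groth.Agent.H23.TrivBasic

/-!
# A module and its inverse both having sections
-/

set_option autoImplicit false

universe u

open CategoryTheory CategoryTheory.Limits AlgebraicGeometry TopologicalSpace Opposite

namespace Groth.Agent.SeesawX

open Groth.Agent Groth.Agent.InvX Groth.Agent.H23.TrivBasic

/-- An invertible module is trivial when it and its inverse have nonzero sections and constants are units. -/
theorem triv_of_pair {V : Scheme.{u}} [IsIntegral V] {L M : V.Modules} (hL : PicF.IsInvertible L) (hM : PicF.IsInvertible M)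
    (φ : CohB1.tensorMod L M ≅ Coh.structureModule V) (hu : ∀ c : Γ(V, ⊤), c ≠ 0 → IsUnit c)
    {s : Γ(L, ⊤)} (hs : s ≠ 0) {t : Γ(M, ⊤)} (ht : t ≠ 0) : Triv L := by
  have hrel : ∀ (U : V.Opens) (e : Γ(L, U)) (f : Γ(M, U)) (a b : Γ(V, U)),
      AModX.res L (le_top : U ≤ ⊤) s = a • e → AModX.res M (le_top : U ≤ ⊤) t = b • f →
      AModX.resR (le_top : U ≤ ⊤) (show Γ(V, ⊤) from φ.hom.app ⊤ (tmul s t)) =
        a * b * (show Γ(V, U) from φ.hom.app U (tmul e f)) := fun U e f a b ha hb => by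
    refine (AModX.app_res φ.hom (le_top : U ≤ ⊤) (tmul s t)).symm.trans ?_
    rw [res_tmul, ha, hb, tmul_smul_left, tmul_smul_right, ← mul_smul, Scheme.Modules.Hom.app_smul]
    rfl
  have hframe : ∀ {U : V.Opens} {e : Γ(L, U)} {f : Γ(M, U)}, IsFrame e → IsFrame f →
      IsUnit (show Γ(V, U) from φ.hom.app U (tmul e f)) := fun {U e f} he hf => by
    obtain ⟨r, hr⟩ := ((isFrame_tmul he hf).map_iso φ).exists_coord le_rfl
      (show Γ(Coh.structureModule V, U) from (1 : Γ(V, U)))
    rw [AModX.res_self] at hr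
    exact IsUnit.of_mul_eq_one r ((mul_comm _ _).trans hr.symm)
  have hc : (show Γ(V, ⊤) from φ.hom.app ⊤ (tmul s t)) ≠ 0 := fun h0 => by
    obtain ⟨x, hxs, hxt⟩ := nonempty_preirreducible_inter (locus s).isOpen (locus t).isOpen
      (Set.nonempty_iff_ne_empty.2 fun h => locus_ne_bot hL hs (Opens.ext h))
      (Set.nonempty_iff_ne_empty.2 fun h => locus_ne_bot hM ht (Opens.ext h))
    have h1 := hrel (locus s ⊓ locus t) _ _ 1 1 (one_smul _ _).symm (one_smul _ _).symm
    rw [h0, map_zero, one_mul, one_mul] at h1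
    have hU := hframe (isFrame_res_of_le_locus (inf_le_left : locus s ⊓ locus t ≤ locus s))
      (isFrame_res_of_le_locus (inf_le_right : locus s ⊓ locus t ≤ locus t))
    rw [← h1] at hU
    haveI : Nonempty (locus s ⊓ locus t : V.Opens) := ⟨⟨x, hxs, hxt⟩⟩
    exact not_isUnit_zero hU
  refine triv_of_frame (e := s) (locus_eq_top_iff.1 (top_le_iff.1 fun x _ => ?_))
  obtain ⟨U, hx, e, f, he, hf⟩ := exists_frame₂ hL hM x
  obtain ⟨a, ha⟩ := he.exists_coord le_rfl (AModX.res L (le_top : U ≤ ⊤) s)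
  obtain ⟨b, hb⟩ := hf.exists_coord le_rfl (AModX.res M (le_top : U ≤ ⊤) t)
  rw [AModX.res_self] at ha hb
  have h := (hu _ hc).map (AModX.resR (le_top : U ≤ ⊤))
  rw [hrel U e f a b ha hb, IsUnit.mul_iff, IsUnit.mul_iff] at h
  refine le_locus (U := U) ?_ hx
  rw [ha]
  exact he.isUnit_smul h.1.1

end Groth.Agent.SeesawX
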