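import Groth.Agent.SeesawX.Main
import Groth.Agent.SeesawX.Pair
import Groth.Agent.Lib.NefPull
import Groth.Agent.H23.RigidApply

/-!
# The criterion for an invertible module to come from the base
-/

set_option autoImplicit false
set_option linter.style.haveILetI false
set_option linter.unusedSectionVars false
set_option backward.isDefEq.respectTransparency false
set_option backward.isDefEq.respectTransparency.types false
set_option maxHeartbeats 1000000

universe u

open CategoryTheory CategoryTheory.Limits AlgebraicGeometry TopologicalSpace Opposite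

namespace Groth.Agent.SeesawX

open Groth.Agent

variable {X S : Scheme.{u}}

theorem isFinLocFreeOfRank_one {L : X.Modules} (hL : PicF.IsInvertible L) : FlatMod.IsFinLocFreeOfRank 1 L := fun x =>
  let ⟨U, hx, ⟨e⟩⟩ := hL x
  ⟨U, hx, ⟨e ≪≫ (H23.DblAlg.freeOneIso _).symm⟩⟩

theorem isInvertible_of_rank_one {L : X.Modules} (hL : FlatMod.IsFinLocFreeOfRank 1 L) : PicF.IsInvertible L := fun x =>
  let ⟨U, hx, ⟨e⟩⟩ := hL x
  ⟨U, hx, ⟨e ≪≫ H23.DblAlg.freeOneIso _⟩⟩

/-- A pullback from the base is trivial on every fibre. -/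
theorem fibre_triv_of_fromBase (f : X ⟶ S) {L : X.Modules} {L₀ : S.Modules} (h₀ : PicF.IsInvertible L₀)
    (e : L ≅ (Scheme.Modules.pullback f).obj L₀) (s : S) :
    Nonempty ((Scheme.Modules.pullback (f.fiberι s)).obj L ≅ Coh.structureModule (f.fiber s)) := by
  haveI : Subsingleton ↥(Spec (S.residueField s)) := inferInstanceAs (Subsingleton (PrimeSpectrum (S.residueField s)))
  haveI : Nonempty ↥(Spec (S.residueField s)) := inferInstanceAs (Nonempty (PrimeSpectrum (S.residueField s)))
  obtain ⟨τ⟩ := NefPull.triv_of_subsingleton (PicClLib.isInvertible_pullback (S.fromSpecResidueField s) h₀)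
  obtain ⟨u⟩ := PicClLib.nonempty_pullback_structureModule (f.fiberToSpecResidueField s)
  exact ⟨(Scheme.Modules.pullback (f.fiberι s)).mapIso e ≪≫ (Scheme.Modules.pullbackComp _ _).app L₀ ≪≫
    (Scheme.Modules.pullbackCongr (f.fiber_fac s)).app L₀ ≪≫ ((Scheme.Modules.pullbackComp _ _).app L₀).symm ≪≫
    (Scheme.Modules.pullback _).mapIso τ ≪≫ u⟩

variable (f : X ⟶ S) [IsProper f] [Flat f] [LocallyOfFinitePresentation f]

/-- A module with trivial fibres whose sections commute with restriction to the fibres comes from the base. -/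
theorem pushforward_of_epi (hf : H23.RigidApply.ConstFibres f) {L : X.Modules} (hL : PicF.IsInvertible L)
    (ht : ∀ s : S, Nonempty ((Scheme.Modules.pullback (f.fiberι s)).obj L ≅ Coh.structureModule (f.fiber s)))
    (hepi : ∀ s : S, Epi (CohBC.bc0 f (S.fromSpecResidueField s) (f.fiberToSpecResidueField s) (f.fiberι s) (f.fiber_fac s) L)) :
    PicF.IsInvertible ((Scheme.Modules.pushforward f).obj L) ∧
      IsIso ((Scheme.Modules.pullbackPushforwardAdjunction f).counit.app L) := by
  haveI : HasInjectiveResolutions X.Modules := KFlatLib.hasInjectiveResolutions_modules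
  haveI := SpObjSS.enoughInjectives_of_hasInjectiveResolutions (C := X.Modules)
  haveI := QCoh.preservesFiniteLimits_push f
  have hL1 := isFinLocFreeOfRank_one hL
  have hlf : FlatMod.IsFinLocFree L := fun x => (hL1 x).elim fun U h => ⟨U, 1, h⟩
  have hfp := QCoh.isFP_of_isFinLocFree hlf
  have hfl : FlatMod.IsFlatOver f L := H23.Seesaw.isFlatOver_of_isInvertible f hL
  have hq := QCoh.isQCoh_of_isFP hfp
  choose V n hV hk e using fun y : S => CohPullX.exists_kerBC_nhd_of_epi hfp hfl y (hepi y)
  let G := (Scheme.Modules.pushforward f).obj L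
  let i : (Coh.Rpush f 0).obj L ≅ G := (Scheme.Modules.pushforward f).rightDerivedZeroIsoSelf.app _
  have hb : ∀ y, IsIso (CohBC.bc0 f (S.fromSpecResidueField y) (f.fiberToSpecResidueField y) (f.fiberι y)
      (f.fiber_fac y) L) := fun y =>
    CohPullX.isIso_bc0_of_hasKerBC (IsPullback.of_hasPullback f (S.fromSpecResidueField y)) hq
      fun t => ⟨V y, by rw [Scheme.fromSpecResidueField_apply]; exact hV y, hk y⟩
  have hp := fun y => bijective_fibre_app f y (hf y)
  have hn : ∀ y, n y = 1 := fun y => by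
    let t : Spec (S.residueField y) ⟶ (V y : Scheme.{u}) := IsOpenImmersion.lift (V y).ι (S.fromSpecResidueField y) (by
      rw [Scheme.range_fromSpecResidueField, Scheme.Opens.range_ι]
      exact Set.singleton_subset_iff.2 (hV y))
    have h1 : FlatMod.IsFinLocFreeOfRank (n y) ((Scheme.Modules.pullback (S.fromSpecResidueField y)).obj G) :=
      (ConsPropLib.isFinLocFreeOfRank_iso ((Scheme.Modules.pullbackComp t (V y).ι).app G ≪≫
        (Scheme.Modules.pullbackCongr (IsOpenImmersion.lift_fac _ _ _)).app G)).1 (TFOneX.isFinLocFreeOfRank_pullback t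
          ((ConsPropLib.isFinLocFreeOfRank_iso ((Scheme.Modules.restrictFunctorIsoPullback (V y).ι).app G)).1
            fun x => ⟨⊤, trivial, ⟨(Scheme.Modules.restrictFunctor (⊤ : (V y : Scheme.{u}).Opens).ι).mapIso
              ((Scheme.Modules.restrictFunctor (V y).ι).mapIso i.symm ≪≫ (e y).some) ≪≫ QCoh.freeModRestrict _ _⟩⟩))
    haveI := hb y
    obtain ⟨τ⟩ := ht y
    have hone : FlatMod.IsFinLocFreeOfRank 1 (Coh.structureModule (Spec (S.residueField y))) :=
      isFinLocFreeOfRank_one InvX.isInvertible_structureModule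
    have h2 : FlatMod.IsFinLocFreeOfRank 1 ((Scheme.Modules.pullback (S.fromSpecResidueField y)).obj G) :=
      (ConsPropLib.isFinLocFreeOfRank_iso (H23.PullPush.structureModuleIsoPush (f.fiberToSpecResidueField y) (hp y) ≪≫
        (Scheme.Modules.pushforward (f.fiberToSpecResidueField y)).mapIso τ.symm ≪≫
        (asIso (CohBC.bc0 f (S.fromSpecResidueField y) (f.fiberToSpecResidueField y) (f.fiberι y) (f.fiber_fac y) L)).symm)).1 hone
    let pt : ↥(Spec (S.residueField y)) := IsLocalRing.closedPoint (S.residueField y)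
    exact ((ConsPropLib.isFinLocFreeOfRank_iff.1 h1).2 pt).symm.trans ((ConsPropLib.isFinLocFreeOfRank_iff.1 h2).2 pt)
  have hG1 : FlatMod.IsFinLocFreeOfRank 1 G := fun y => ⟨V y, hV y,
    ⟨(Scheme.Modules.restrictFunctor (V y).ι).mapIso i.symm ≪≫ (e y).some ≪≫ eqToIso (by rw [hn y])⟩⟩
  refine ⟨isInvertible_of_rank_one hG1, ?_⟩
  let c := (Scheme.Modules.pullbackPushforwardAdjunction f).counit.app L
  show IsIso c
  have hGp : FlatMod.IsFinLocFreeOfRank 1 ((Scheme.Modules.pullback f).obj G) :=
    TFOneX.isFinLocFreeOfRank_pullback f hG1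
  have hGf := QCoh.isFP_of_isFinLocFree (M := (Scheme.Modules.pullback f).obj G)
    fun x => (hGp x).elim fun U h => ⟨U, 1, h⟩
  have hCfp : CohB1.IsFP (cokernel c) := FPEnough.isFP_cokernel (QCoh.isQCoh_of_isFP hGf) (QCoh.isFT_of_isFP hGf)
    hq hfp c
  have hC := QCoh.isQCoh_of_isFP hCfp
  have hCft := QCoh.isFT_of_isFP hCfp
  haveI : Epi c := by
    refine Abelian.epi_of_cokernel_π_eq_zero _ (IsZero.eq_of_tgt (isZero_of_sheafIdeal_zero hC hCft ?_) _ _)
    rw [← Scheme.IdealSheafData.support_eq_bot_iff, ← SetLike.coe_set_eq, TopologicalSpace.Closeds.coe_bot,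
      Set.eq_empty_iff_forall_notMem]
    intro x hx
    obtain ⟨a, ha⟩ : x ∈ Set.range (f.fiberι (f x)) := by rw [Scheme.Hom.range_fiberι]; exact rfl
    obtain ⟨τ⟩ := ht (f x)
    haveI := hb (f x)
    haveI : IsIso ((Scheme.Modules.pullbackPushforwardAdjunction (f.fiberToSpecResidueField (f x))).counit.app
        ((Scheme.Modules.pullback (f.fiberι (f x))).obj L)) :=
      (NatTrans.isIso_app_iff_of_iso _ τ).2
        (H23.PullPush.isIso_counit_structureModule (f.fiberToSpecResidueField (f x)) (hp (f x)))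
    haveI : IsIso ((Scheme.Modules.pullback (f.fiberι (f x))).map c) := by
      rw [counit_baseChange f (S.fromSpecResidueField (f x)) (f.fiberToSpecResidueField (f x)) (f.fiberι (f x))
        (f.fiber_fac (f x)) L]
      infer_instance
    have hz : IsZero ((Scheme.Modules.pullback (f.fiberι (f x))).obj (cokernel c)) :=
      IsZero.of_iso (isZero_cokernel_of_epi _) (PreservesCokernel.iso (Scheme.Modules.pullback (f.fiberι (f x))) c)
    have hbot : ((Fitt.sheafIdeal (cokernel c) 0).comap (f.fiberι (f x))).support = ⊥ := by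
      rw [FittX.sheafIdeal_comap _ hC hCft, Scheme.IdealSheafData.support_eq_bot_iff]
      exact sheafIdeal_zero_of_isZero (QCoh.isQCoh_pullback _ hC) (FittX.isFT_pullback _ hC hCft) hz
    rw [Scheme.IdealSheafData.support_comap, ← SetLike.coe_set_eq, TopologicalSpace.Closeds.coe_preimage,
      TopologicalSpace.Closeds.coe_bot, Set.eq_empty_iff_forall_notMem] at hbot
    exact hbot a (show f.fiberι (f x) a ∈ _ from ha.symm ▸ hx)
  exact isIso_of_epi_rank hGp hL1 c

end Groth.Agent.SeesawX
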