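import Groth.Agent.CohBCX.Comp
import Groth.Agent.CohPullX.DegreeZero
import Groth.Agent.ExistEasy.PP.PullSec
import Groth.Agent.FlatPt5.Stage
import Groth.Agent.H23.PullPush
import Groth.Agent.TFOneX.Beta

/-!
# Base change maps, units and counits
-/

set_option autoImplicit false
set_option linter.style.haveILetI false
set_option linter.unusedSectionVars false
set_option backward.isDefEq.respectTransparency false
set_option backward.isDefEq.respectTransparency.types false
set_option maxHeartbeats 1000000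

universe u

open CategoryTheory CategoryTheory.Limits AlgebraicGeometry TopologicalSpace Opposite

namespace Groth.Agent.SeesawX

open Groth.Agent

variable {X T T' X' : Scheme.{u}} (f : X ⟶ T) (v : T' ⟶ T) (f' : X' ⟶ T') (v' : X' ⟶ X)

/-- The counit on pulled back sections. -/
theorem counit_app_pullSec (N : X.Modules) {U : T.Opens} {W : X.Opens} (hle : W ≤ f ⁻¹ᵁ U)
    (x : Γ((Scheme.Modules.pushforward f).obj N, U)) :
    ((Scheme.Modules.pullbackPushforwardAdjunction f).counit.app N).app W
        (QCoh.pullSec f ((Scheme.Modules.pushforward f).obj N) hle x) =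
      N.presheaf.map (homOfLE hle).op (show Γ(N, f ⁻¹ᵁ U) from x) := by
  have h : (Scheme.Modules.pullbackPushforwardAdjunction f).unit.app ((Scheme.Modules.pushforward f).obj N) ≫
      (Scheme.Modules.pushforward f).map ((Scheme.Modules.pullbackPushforwardAdjunction f).counit.app N) = 𝟙 _ :=
    (Scheme.Modules.pullbackPushforwardAdjunction f).right_triangle_components N
  refine (QCoh.map_app_comm ((Scheme.Modules.pullbackPushforwardAdjunction f).counit.app N) (homOfLE hle) _).trans ?_
  exact congrArg (fun z : Γ(N, f ⁻¹ᵁ U) => N.presheaf.map (homOfLE hle).op z) (congrArg (fun t => t.app U x) h)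

variable (w : v' ≫ f = f' ≫ v)

/-- Comparison of the two iterated inverse images of a square. -/
noncomputable def sqIso (M : T.Modules) :
    (Scheme.Modules.pullback v').obj ((Scheme.Modules.pullback f).obj M) ≅
      (Scheme.Modules.pullback f').obj ((Scheme.Modules.pullback v).obj M) :=
  (Scheme.Modules.pullbackComp v' f).app M ≪≫ (Scheme.Modules.pullbackCongr w).app M ≪≫
    ((Scheme.Modules.pullbackComp f' v).app M).symm

theorem sqIso_pullSec (M : T.Modules) {U : T.Opens} {V : X.Opens} {V' : T'.Opens} {W : X'.Opens}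
    (h₁ : V ≤ f ⁻¹ᵁ U) (h₂ : W ≤ v' ⁻¹ᵁ V) (h₃ : V' ≤ v ⁻¹ᵁ U) (h₄ : W ≤ f' ⁻¹ᵁ V') (m : Γ(M, U)) :
    (sqIso f v f' v' w M).hom.app W (QCoh.pullSec v' _ h₂ (QCoh.pullSec f M h₁ m)) =
      QCoh.pullSec f' _ h₄ (QCoh.pullSec v M h₃ m) := by
  have e1 := ExistEasy.pullSec_comp v' f M h₁ h₂ m
  have e2 := ExistEasy.pullSec_comp f' v M h₃ h₄ m
  let A := fun z : Γ((Scheme.Modules.pullback (f' ≫ v)).obj M, W) =>
    ((Scheme.Modules.pullbackComp f' v).inv.app M).app W z
  let B := fun z : Γ((Scheme.Modules.pullback (v' ≫ f)).obj M, W) =>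
    ((Scheme.Modules.pullbackCongr w).hom.app M).app W z
  refine ((congrArg (fun z => A (B z)) e1).trans (congrArg A (ExistEasy.pullSec_congr w M _ m))).trans ?_
  refine (congrArg A e2.symm).trans ?_
  exact congrArg (fun t => t.app W (QCoh.pullSec f' _ h₄ (QCoh.pullSec v M h₃ m)))
    ((Scheme.Modules.pullbackComp f' v).hom_inv_id_app M)

/-- The counit commutes with base change. -/
theorem counit_baseChange (F : X.Modules) :
    (Scheme.Modules.pullback v').map ((Scheme.Modules.pullbackPushforwardAdjunction f).counit.app F) =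
      (sqIso f v f' v' w ((Scheme.Modules.pushforward f).obj F)).hom ≫
        (Scheme.Modules.pullback f').map (CohBC.bc0 f v f' v' w F) ≫
        (Scheme.Modules.pullbackPushforwardAdjunction f').counit.app ((Scheme.Modules.pullback v').obj F) := by
  refine CohBCX.hom_ext_pullSec v' f _ _ (S := Set.univ)
    (Opens.isBasis_iff_nbhd.2 fun {V x} hx => ⟨V, trivial, hx, le_rfl⟩) fun U _ m => ?_
  have hle : v' ⁻¹ᵁ (f ⁻¹ᵁ U) ≤ f' ⁻¹ᵁ (v ⁻¹ᵁ U) := by
    rw [← Scheme.Hom.comp_preimage, w]; exact le_rfl
  have hle' : f' ⁻¹ᵁ (v ⁻¹ᵁ U) ≤ v' ⁻¹ᵁ (f ⁻¹ᵁ U) := by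
    rw [← Scheme.Hom.comp_preimage, ← w]; exact le_rfl
  refine (FlatPt5.pullSec_map v' _ le_rfl _).trans ?_
  rw [counit_app_pullSec]
  refine Eq.trans ?_ (Eq.symm ((congrArg
    (fun z => ((Scheme.Modules.pullback f').map (CohBC.bc0 f v f' v' w F) ≫
      (Scheme.Modules.pullbackPushforwardAdjunction f').counit.app _).app _ z)
    (sqIso_pullSec f v f' v' w _ le_rfl le_rfl le_rfl hle m)).trans
      ((congrArg (((Scheme.Modules.pullbackPushforwardAdjunction f').counit.app _).app _)
        ((FlatPt5.pullSec_map f' _ hle _).trans (congrArg (QCoh.pullSec f' _ hle)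
          (CohPullX.bc0_app_pullSec (f := f) (g := v) (g' := v') (f' := f') w F U (v ⁻¹ᵁ U) le_rfl hle' m)))).trans
        (counit_app_pullSec f' _ hle _))))
  exact (ExistEasy.pullSec_res v' F le_rfl hle hle' le_rfl (show Γ(F, f ⁻¹ᵁ U) from m)).symm

/-- The unit commutes with base change. -/
theorem unit_baseChange (M : T.Modules) :
    (Scheme.Modules.pullback v).map ((Scheme.Modules.pullbackPushforwardAdjunction f).unit.app M) ≫
        CohBC.bc0 f v f' v' w ((Scheme.Modules.pullback f).obj M) ≫
        (Scheme.Modules.pushforward f').map (sqIso f v f' v' w M).hom =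
      (Scheme.Modules.pullbackPushforwardAdjunction f').unit.app ((Scheme.Modules.pullback v).obj M) := by
  apply ((Scheme.Modules.pullbackPushforwardAdjunction v).homEquiv _ _).injective
  refine CohBCX.hom_ext_basis _ _ (S := Set.univ)
    (Opens.isBasis_iff_nbhd.2 fun {V x} hx => ⟨V, trivial, hx, le_rfl⟩) fun U _ m => ?_
  have hle' : f' ⁻¹ᵁ (v ⁻¹ᵁ U) ≤ v' ⁻¹ᵁ (f ⁻¹ᵁ U) := by
    rw [← Scheme.Hom.comp_preimage, ← w]; exact le_rfl
  simp only [Adjunction.homEquiv_unit]
  have e1 : QCoh.pullSec v M (le_refl (v ⁻¹ᵁ U)) m =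
      ((Scheme.Modules.pullbackPushforwardAdjunction v).unit.app M).app U m := QCoh.map_id' _ _
  have e2 : ∀ p : Γ((Scheme.Modules.pullback v).obj M, v ⁻¹ᵁ U),
      QCoh.pullSec f' _ (le_refl (f' ⁻¹ᵁ (v ⁻¹ᵁ U))) p =
        ((Scheme.Modules.pullbackPushforwardAdjunction f').unit.app _).app (v ⁻¹ᵁ U) p := fun p => QCoh.map_id' _ _
  have e3 : QCoh.pullSec f M (le_refl (f ⁻¹ᵁ U)) m =
      ((Scheme.Modules.pullbackPushforwardAdjunction f).unit.app M).app U m := QCoh.map_id' _ _
  show ((Scheme.Modules.pullback v).map ((Scheme.Modules.pullbackPushforwardAdjunction f).unit.app M) ≫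
        CohBC.bc0 f v f' v' w ((Scheme.Modules.pullback f).obj M) ≫
        (Scheme.Modules.pushforward f').map (sqIso f v f' v' w M).hom).app (v ⁻¹ᵁ U)
      (((Scheme.Modules.pullbackPushforwardAdjunction v).unit.app M).app U m) =
    ((Scheme.Modules.pullbackPushforwardAdjunction f').unit.app _).app (v ⁻¹ᵁ U)
      (((Scheme.Modules.pullbackPushforwardAdjunction v).unit.app M).app U m)
  rw [← e1, ← e2]
  refine (congrArg (fun z => (CohBC.bc0 f v f' v' w ((Scheme.Modules.pullback f).obj M) ≫
      (Scheme.Modules.pushforward f').map (sqIso f v f' v' w M).hom).app (v ⁻¹ᵁ U) z)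
    ((FlatPt5.pullSec_map v _ le_rfl m).trans (congrArg (QCoh.pullSec v _ le_rfl) e3.symm))).trans ?_
  refine (congrArg (fun z => (sqIso f v f' v' w M).hom.app (f' ⁻¹ᵁ (v ⁻¹ᵁ U)) z)
    (CohPullX.bc0_app_pullSec (f := f) (g := v) (g' := v') (f' := f') w _ U (v ⁻¹ᵁ U) le_rfl hle'
      (QCoh.pullSec f M le_rfl m))).trans ?_
  exact sqIso_pullSec f v f' v' w M le_rfl hle' le_rfl le_rfl m

variable {f v f' v'}

/-- Base change is an isomorphism for modules coming from the base. -/
theorem isIso_bc0_pullback (hf : ∀ U : T.Opens, Function.Bijective (f.app U))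
    (hf' : ∀ U : T'.Opens, Function.Bijective (f'.app U)) {M : T.Modules} {n : ℕ}
    (hM : FlatMod.IsFinLocFreeOfRank n M) :
    IsIso (CohBC.bc0 f v f' v' w ((Scheme.Modules.pullback f).obj M)) := by
  haveI := H23.PullPush.isIso_unit_of_isFinLocFree f hf M fun x => (hM x).elim fun U h => ⟨U, n, h⟩
  haveI := H23.PullPush.isIso_unit_of_isFinLocFree f' hf' ((Scheme.Modules.pullback v).obj M)
    fun x => (TFOneX.isFinLocFreeOfRank_pullback v hM x).elim fun U h => ⟨U, n, h⟩
  haveI : IsIso ((Scheme.Modules.pullback v).map ((Scheme.Modules.pullbackPushforwardAdjunction f).unit.app M) ≫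
        CohBC.bc0 f v f' v' w ((Scheme.Modules.pullback f).obj M) ≫
        (Scheme.Modules.pushforward f').map (sqIso f v f' v' w M).hom) := by
    rw [unit_baseChange]; infer_instance
  haveI : IsIso (CohBC.bc0 f v f' v' w ((Scheme.Modules.pullback f).obj M) ≫
        (Scheme.Modules.pushforward f').map (sqIso f v f' v' w M).hom) :=
    IsIso.of_isIso_comp_left ((Scheme.Modules.pullback v).map ((Scheme.Modules.pullbackPushforwardAdjunction f).unit.app M)) _
  exact IsIso.of_isIso_comp_right _ ((Scheme.Modules.pushforward f').map (sqIso f v f' v' w M).hom)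

/-- Base change is invariant under isomorphisms of the module. -/
theorem bc0_naturality {F G : X.Modules} (a : F ⟶ G) :
    (Scheme.Modules.pullback v).map ((Scheme.Modules.pushforward f).map a) ≫ CohBC.bc0 f v f' v' w G =
      CohBC.bc0 f v f' v' w F ≫ (Scheme.Modules.pushforward f').map ((Scheme.Modules.pullback v').map a) := by
  apply ((Scheme.Modules.pullbackPushforwardAdjunction v).homEquiv _ _).injective
  rw [Adjunction.homEquiv_naturality_left, Adjunction.homEquiv_naturality_right]
  show (Scheme.Modules.pushforward f).map a ≫ ((Scheme.Modules.pullbackPushforwardAdjunction v).homEquiv _ _)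
      (((Scheme.Modules.pullbackPushforwardAdjunction v).homEquiv _ _).symm (CohBC.bc0Adj f v f' v' w G)) =
    ((Scheme.Modules.pullbackPushforwardAdjunction v).homEquiv _ _)
      (((Scheme.Modules.pullbackPushforwardAdjunction v).homEquiv _ _).symm (CohBC.bc0Adj f v f' v' w F)) ≫ _
  rw [Equiv.apply_symm_apply, Equiv.apply_symm_apply, CohBC.bc0Adj, CohBC.bc0Adj, ← Category.assoc,
    ← Functor.map_comp]
  rw [show a ≫ (Scheme.Modules.pullbackPushforwardAdjunction v').unit.app G =
    (Scheme.Modules.pullbackPushforwardAdjunction v').unit.app F ≫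
      (Scheme.Modules.pushforward v').map ((Scheme.Modules.pullback v').map a) from
    (Scheme.Modules.pullbackPushforwardAdjunction v').unit.naturality a]
  simp only [Functor.map_comp, Category.assoc]
  congr 1
  let a' := (Scheme.Modules.pullback v').map a
  exact (((Scheme.Modules.pushforwardComp v' f).hom ≫ (Scheme.Modules.pushforwardCongr w).hom ≫
    (Scheme.Modules.pushforwardComp f' v).inv).naturality a').trans (by simp only [NatTrans.comp_app, Category.assoc, Functor.comp_map]; rfl)

theorem isIso_bc0_of_iso {F G : X.Modules} (e : F ≅ G) (h : IsIso (CohBC.bc0 f v f' v' w F)) :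
    IsIso (CohBC.bc0 f v f' v' w G) := by
  haveI := h
  haveI : IsIso ((Scheme.Modules.pullback v).map ((Scheme.Modules.pushforward f).map e.hom) ≫
      CohBC.bc0 f v f' v' w G) := by
    rw [bc0_naturality]; infer_instance
  exact IsIso.of_isIso_comp_left ((Scheme.Modules.pullback v).map ((Scheme.Modules.pushforward f).map e.hom)) _

end Groth.Agent.SeesawX
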