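import Groth.Agent.StratX.Main
import Groth.Agent.SeesawX.Basic
import Groth.Agent.SeesawX.Unit
import Groth.Agent.SeesawX.Mate
import Groth.Agent.LimModLib.RightExact
import Groth.Agent.FittX.Sheaf
import Groth.Agent.DepthAlong6.FibreScheme
import Groth.Agent.FPEnough.Descend
import Groth.Agent.FComplLib.KrullSupp

/-!
# The seesaw subscheme of a vector bundle
-/

set_option autoImplicit false
set_option linter.style.haveILetI false
set_option linter.unusedSectionVars false
set_option backward.isDefEq.respectTransparency false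
set_option backward.isDefEq.respectTransparency.types false
set_option maxHeartbeats 1000000

universe u

open CategoryTheory CategoryTheory.Limits AlgebraicGeometry TopologicalSpace Opposite Topology

namespace Groth.Agent.SeesawX

open Groth.Agent

/-- `O = f_* O` after every base change. -/
def UnivPush {X S : Scheme.{u}} (f : X ⟶ S) : Prop :=
  ∀ ⦃T XT : Scheme.{u}⦄ (g : T ⟶ S) (fT : XT ⟶ T) (gT : XT ⟶ X), IsPullback gT fT f g →
    ∀ W : T.Opens, Function.Bijective (fT.app W)

/-- The pullback of `E` comes from a vector bundle of rank `n` on the base. -/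
def FromBase {X : Scheme.{u}} (E : X.Modules) (n : ℕ) {T XT : Scheme.{u}} (fT : XT ⟶ T) (gT : XT ⟶ X) : Prop :=
  ∃ M : T.Modules, FlatMod.IsFinLocFreeOfRank n M ∧
    Nonempty ((Scheme.Modules.pullback gT).obj E ≅ (Scheme.Modules.pullback fT).obj M)

variable {X S : Scheme.{u}} {f : X ⟶ S} [IsProper f] [Flat f] [LocallyOfFinitePresentation f] {E : X.Modules} {n : ℕ}

/-- A pullback from the base satisfies the stratum condition. -/
theorem cond_of_fromBase (hu : UnivPush f) {T XT : Scheme.{u}} {u : T ⟶ S} {fT : XT ⟶ T} {gT : XT ⟶ X}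
    (hT : IsPullback gT fT f u) (h : FromBase E n fT gT) : StratX.Cond E n fT gT := by
  obtain ⟨M, hM, ⟨e⟩⟩ := h
  have hf := hu u fT gT hT
  haveI := H23.PullPush.isIso_unit_of_isFinLocFree fT hf M fun x => (hM x).elim fun U h => ⟨U, n, h⟩
  refine ⟨?_, fun X'' T' v' f'' u' h' => ?_⟩
  · exact (ConsPropLib.isFinLocFreeOfRank_iso
      (asIso ((Scheme.Modules.pullbackPushforwardAdjunction fT).unit.app M) ≪≫
        (Scheme.Modules.pushforward fT).mapIso e.symm)).1 hM
  · exact isIso_bc0_of_iso h'.w e.symm (isIso_bc0_pullback h'.w hf (hu (u' ≫ u) f'' (v' ≫ gT) (h'.paste_horiz hT)) hM)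

/-- The seesaw subscheme of a vector bundle of rank `n`. -/
theorem exists_seesaw (hu : UnivPush f) (hE : FlatMod.IsFinLocFreeOfRank n E) (hfl : FlatMod.IsFlatOver f E) :
    ∃ (Z : Scheme.{u}) (ι : Z ⟶ S), IsImmersion ι ∧ LocallyOfFinitePresentation ι ∧ QuasiCompact ι ∧
      ∀ ⦃T XT : Scheme.{u}⦄ (u : T ⟶ S) (fT : XT ⟶ T) (gT : XT ⟶ X), IsPullback gT fT f u →
        ((∃ l : T ⟶ Z, l ≫ ι = u) ↔ FromBase E n fT gT) := by
  have hlf : FlatMod.IsFinLocFree E := fun x => (hE x).elim fun U h => ⟨U, n, h⟩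
  have hfp := QCoh.isFP_of_isFinLocFree hlf
  obtain ⟨Z, j, hj, hjp, hjq, huniv, -⟩ := StratX.exists_stratum (f := f) (M := E) (r := n) hfp hfl
  haveI := hj; haveI := hjp; haveI := hjq
  let fZ := Limits.pullback.snd f j
  let gZ := Limits.pullback.fst f j
  let EZ := (Scheme.Modules.pullback gZ).obj E
  have hZ := IsPullback.of_hasPullback f j
  obtain ⟨hG, hbc⟩ := (huniv Z _ j fZ gZ hZ).1 ⟨𝟙 _, Category.id_comp _⟩
  let G := (Scheme.Modules.pushforward fZ).obj EZ
  let c := (Scheme.Modules.pullbackPushforwardAdjunction fZ).counit.app EZ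
  have hEZ : FlatMod.IsFinLocFreeOfRank n EZ := TFOneX.isFinLocFreeOfRank_pullback gZ hE
  have hGp : FlatMod.IsFinLocFreeOfRank n ((Scheme.Modules.pullback fZ).obj G) :=
    TFOneX.isFinLocFreeOfRank_pullback fZ hG
  have hEf := QCoh.isFP_of_isFinLocFree (M := EZ) fun x => (hEZ x).elim fun U h => ⟨U, n, h⟩
  have hGf := QCoh.isFP_of_isFinLocFree (M := (Scheme.Modules.pullback fZ).obj G)
    fun x => (hGp x).elim fun U h => ⟨U, n, h⟩
  let C := cokernel c
  have hCfp : CohB1.IsFP C := FPEnough.isFP_cokernel (QCoh.isQCoh_of_isFP hGf) (QCoh.isFT_of_isFP hGf)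
    (QCoh.isQCoh_of_isFP hEf) hEf c
  have hC := QCoh.isQCoh_of_isFP hCfp
  have hCft := QCoh.isFT_of_isFP hCfp
  let K : Set ↥(Limits.pullback f j) := (Fitt.sheafIdeal C 0).support
  let O : (Limits.pullback f j).Opens := ⟨Kᶜ, (Fitt.sheafIdeal C 0).support.isClosed.isOpen_compl⟩
  have hK : IsLocallyConstructible K := isLocallyConstructible_support _ (FittX.isFiniteTypeIdeal hCfp 0)
  let U : Z.Opens := ⟨(fZ '' K)ᶜ, (fZ.isClosedMap _ (Fitt.sheafIdeal C 0).support.isClosed).isOpen_compl⟩
  haveI : QuasiCompact U.ι := by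
    refine quasiCompact_iff_isSpectralMap.2 ?_
    exact IsRetrocompact_iff_isSpectralMap_subtypeVal.1
      (DepthAlong6.isRetrocompact_of_isLC (isLocallyConstructible_compl' (fZ.isLocallyConstructible_image hK)))
  refine ⟨(U : Scheme.{u}), U.ι ≫ j, inferInstance, inferInstance, inferInstance, fun T XT u fT gT hT => ⟨?_, ?_⟩⟩
  · rintro ⟨l, hl⟩
    let l' := l ≫ U.ι
    let v' : XT ⟶ Limits.pullback f j := Limits.pullback.lift gT (fT ≫ l') (by
      rw [hT.w, ← hl]; simp [l'])
    have hv : v' ≫ gZ = gT := Limits.pullback.lift_fst _ _ _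
    have hv' : v' ≫ fZ = fT ≫ l' := Limits.pullback.lift_snd _ _ _
    have hrange : Set.range v' ⊆ Set.range O.ι := by
      rw [Scheme.Opens.range_ι]
      rintro _ ⟨x, rfl⟩ hx
      refine (l (fT x)).2 ⟨v' x, hx, ?_⟩
      rw [← Scheme.Hom.comp_apply, hv', Scheme.Hom.comp_apply]
      rfl
    let b := IsOpenImmersion.lift O.ι v' hrange
    have hb : b ≫ O.ι = v' := IsOpenImmersion.lift_fac _ _ _
    haveI : IsIso ((Scheme.Modules.pullback O.ι).map c) := by
      haveI : Epi ((Scheme.Modules.pullback O.ι).map c) := by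
        refine Abelian.epi_of_cokernel_π_eq_zero _ (IsZero.eq_of_tgt ?_ _ _)
        refine IsZero.of_iso ?_ (PreservesCokernel.iso (Scheme.Modules.pullback O.ι) c).symm
        refine isZero_of_sheafIdeal_zero (QCoh.isQCoh_pullback _ hC) (FittX.isFT_pullback _ hC hCft) ?_
        rw [← FittX.sheafIdeal_comap _ hC hCft, ← Scheme.IdealSheafData.support_eq_bot_iff,
          Scheme.IdealSheafData.support_comap, ← SetLike.coe_set_eq, TopologicalSpace.Closeds.coe_preimage,
          TopologicalSpace.Closeds.coe_bot, Set.eq_empty_iff_forall_notMem]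
        exact fun x hx => x.2 hx
      exact isIso_of_epi_rank (TFOneX.isFinLocFreeOfRank_pullback _ hGp) (TFOneX.isFinLocFreeOfRank_pullback _ hEZ) _
    refine ⟨(Scheme.Modules.pullback l').obj G, TFOneX.isFinLocFreeOfRank_pullback _ hG, ⟨?_⟩⟩
    exact (Scheme.Modules.pullbackCongr hv.symm).app E ≪≫ ((Scheme.Modules.pullbackComp v' gZ).app E).symm ≪≫
      (Scheme.Modules.pullbackCongr hb.symm).app EZ ≪≫ ((Scheme.Modules.pullbackComp b O.ι).app EZ).symm ≪≫
      (Scheme.Modules.pullback b).mapIso (asIso ((Scheme.Modules.pullback O.ι).map c)).symm ≪≫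
      (Scheme.Modules.pullbackComp b O.ι).app _ ≪≫ (Scheme.Modules.pullbackCongr hb).app _ ≪≫
      sqIso fZ l' fT v' hv' G
  · intro h
    obtain ⟨l, hl⟩ := (huniv T XT u fT gT hT).2 (cond_of_fromBase hu hT h)
    let v' : XT ⟶ Limits.pullback f j := Limits.pullback.lift gT (fT ≫ l) (by rw [hT.w, Category.assoc, hl])
    have hv : v' ≫ gZ = gT := Limits.pullback.lift_fst _ _ _
    have hv' : v' ≫ fZ = fT ≫ l := Limits.pullback.lift_snd _ _ _
    have hsq : IsPullback v' fT fZ l := IsPullback.of_right (by rw [hv, hl]; exact hT) hv' hZ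
    haveI := hbc v' fT l hsq
    obtain ⟨M, hM, ⟨e⟩⟩ := h
    haveI : IsIso ((Scheme.Modules.pullbackPushforwardAdjunction fT).counit.app ((Scheme.Modules.pullback v').obj EZ)) := by
      refine (NatTrans.isIso_app_iff_of_iso _ ((Scheme.Modules.pullbackComp v' gZ).app E ≪≫
        (Scheme.Modules.pullbackCongr hv).app E ≪≫ e)).2 ?_
      exact H23.PullPush.isIso_counit_pullback_of_isFinLocFree fT (hu u fT gT hT) M
        fun x => (hM x).elim fun U h => ⟨U, n, h⟩
    haveI : IsIso ((Scheme.Modules.pullback v').map c) := by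
      rw [counit_baseChange fZ l fT v' hsq.w EZ]
      infer_instance
    have hz : IsZero ((Scheme.Modules.pullback v').obj C) := by
      refine IsZero.of_iso ?_ (PreservesCokernel.iso (Scheme.Modules.pullback v') c)
      exact isZero_cokernel_of_epi _
    refine ⟨IsOpenImmersion.lift U.ι l ?_, by rw [IsOpenImmersion.lift_fac_assoc, hl]⟩
    rw [Scheme.Opens.range_ι]
    rintro _ ⟨t, rfl⟩ ⟨y, hy, hyt⟩
    obtain ⟨x, hx, -⟩ := Scheme.Pullback.exists_preimage_pullback (f := fZ) (g := l) y t hyt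
    let x' := hsq.isoPullback.inv x
    have hx' : v' x' = y := by
      rw [← hx, ← hsq.isoPullback_inv_fst, Scheme.Hom.comp_apply]
    have hbot : ((Fitt.sheafIdeal C 0).comap v').support = ⊥ := by
      rw [FittX.sheafIdeal_comap _ hC hCft, Scheme.IdealSheafData.support_eq_bot_iff]
      exact sheafIdeal_zero_of_isZero (QCoh.isQCoh_pullback _ hC) (FittX.isFT_pullback _ hC hCft) hz
    rw [Scheme.IdealSheafData.support_comap, ← SetLike.coe_set_eq, TopologicalSpace.Closeds.coe_preimage,
      TopologicalSpace.Closeds.coe_bot, Set.eq_empty_iff_forall_notMem] at hbot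
    exact hbot x' (hx' ▸ hy : v' x' ∈ K)

end Groth.Agent.SeesawX
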