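import Groth.Agent.SeesawX.Crit
import Groth.Agent.CohPullX.DegreeZero
import Groth.Agent.QCoh.Qcqs

/-!
# The locus of trivial fibres is open where the first cohomology vanishes
-/

set_option autoImplicit false
set_option linter.style.haveILetI false
set_option linter.unusedSectionVars false
set_option backward.isDefEq.respectTransparency false
set_option backward.isDefEq.respectTransparency.types false
set_option maxHeartbeats 1000000

universe u

open CategoryTheory CategoryTheory.Limits AlgebraicGeometry TopologicalSpace Opposite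

namespace Groth.Agent.SeesawX

open Groth.Agent

variable {X S : Scheme.{u}} (f : X ⟶ S) [IsProper f] [Flat f] [LocallyOfFinitePresentation f]

/-- Vanishing of the first cohomology of a fibre makes the restriction of sections surjective. -/
theorem epi_bc0_of_H1 {L : X.Modules} (hfp : CohB1.IsFP L) (hfl : FlatMod.IsFlatOver f L) (y : S)
    (h : Subsingleton (CohIII.fiberH f L y 1)) :
    Epi (CohBC.bc0 f (S.fromSpecResidueField y) (f.fiberToSpecResidueField y) (f.fiberι y) (f.fiber_fac y) L) := by
  obtain ⟨W, hW, hk⟩ := CohPullX.exists_kerBC_nhd_of_H1_zero hfp hfl y h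
  haveI := CohPullX.isIso_bc0_of_hasKerBC (IsPullback.of_hasPullback f (S.fromSpecResidueField y)) (QCoh.isQCoh_of_isFP hfp)
    fun t => ⟨W, by rw [Scheme.fromSpecResidueField_apply]; exact hW, hk⟩
  haveI : IsIso (CohBC.bc0 f (S.fromSpecResidueField y) (f.fiberToSpecResidueField y) (f.fiberι y) (f.fiber_fac y) L) :=
    this
  infer_instance

/-- Triviality on a fibre spreads out when the restriction of sections to that fibre is surjective. -/
theorem exists_nhd_fibre_trivial (hf : H23.RigidApply.ConstFibres f) {L : X.Modules} (hL : PicF.IsInvertible L) (y : S)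
    (τ : (Scheme.Modules.pullback (f.fiberι y)).obj L ≅ Coh.structureModule (f.fiber y))
    (hepi : Epi (CohBC.bc0 f (S.fromSpecResidueField y) (f.fiberToSpecResidueField y) (f.fiberι y) (f.fiber_fac y) L)) :
    ∃ U : S.Opens, y ∈ U ∧ ∀ t ∈ U,
      Nonempty ((Scheme.Modules.pullback (f.fiberι t)).obj L ≅ Coh.structureModule (f.fiber t)) := by
  have hL1 := isFinLocFreeOfRank_one hL
  have hlf : FlatMod.IsFinLocFree L := fun x => (hL1 x).elim fun U h => ⟨U, 1, h⟩
  have hfp := QCoh.isFP_of_isFinLocFree hlf
  have hfl : FlatMod.IsFlatOver f L := H23.Seesaw.isFlatOver_of_isInvertible f hL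
  have hq := QCoh.isQCoh_of_isFP hfp
  haveI : HasInjectiveResolutions X.Modules := KFlatLib.hasInjectiveResolutions_modules
  haveI := SpObjSS.enoughInjectives_of_hasInjectiveResolutions (C := X.Modules)
  haveI := QCoh.preservesFiniteLimits_push f
  obtain ⟨V, n, hV, hk, ⟨e⟩⟩ := CohPullX.exists_kerBC_nhd_of_epi hfp hfl y hepi
  let G := (Scheme.Modules.pushforward f).obj L
  let i : (Coh.Rpush f 0).obj L ≅ G := (Scheme.Modules.pushforward f).rightDerivedZeroIsoSelf.app _
  haveI hb : IsIso (CohBC.bc0 f (S.fromSpecResidueField y) (f.fiberToSpecResidueField y) (f.fiberι y)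
      (f.fiber_fac y) L) :=
    CohPullX.isIso_bc0_of_hasKerBC (IsPullback.of_hasPullback f (S.fromSpecResidueField y)) hq
      fun t => ⟨V, by rw [Scheme.fromSpecResidueField_apply]; exact hV, hk⟩
  -- the rank of the direct image on the neighbourhood
  have hrank : ∀ t : S, t ∈ V →
      FlatMod.IsFinLocFreeOfRank n ((Scheme.Modules.pullback (S.fromSpecResidueField t)).obj G) := fun t ht => by
    let j : Spec (S.residueField t) ⟶ (V : Scheme.{u}) := IsOpenImmersion.lift V.ι (S.fromSpecResidueField t) (by
      rw [Scheme.range_fromSpecResidueField, Scheme.Opens.range_ι]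
      exact Set.singleton_subset_iff.2 ht)
    exact (ConsPropLib.isFinLocFreeOfRank_iso ((Scheme.Modules.pullbackComp j V.ι).app G ≪≫
        (Scheme.Modules.pullbackCongr (IsOpenImmersion.lift_fac _ _ _)).app G)).1 (TFOneX.isFinLocFreeOfRank_pullback j
          ((ConsPropLib.isFinLocFreeOfRank_iso ((Scheme.Modules.restrictFunctorIsoPullback V.ι).app G)).1
            fun x => ⟨⊤, trivial, ⟨(Scheme.Modules.restrictFunctor (⊤ : (V : Scheme.{u}).Opens).ι).mapIso
              ((Scheme.Modules.restrictFunctor V.ι).mapIso i.symm ≪≫ e) ≪≫ QCoh.freeModRestrict _ _⟩⟩))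
  have hp := bijective_fibre_app f y (hf y)
  have hn : n = 1 := by
    have hone : FlatMod.IsFinLocFreeOfRank 1 (Coh.structureModule (Spec (S.residueField y))) :=
      isFinLocFreeOfRank_one InvX.isInvertible_structureModule
    have h2 : FlatMod.IsFinLocFreeOfRank 1 ((Scheme.Modules.pullback (S.fromSpecResidueField y)).obj G) :=
      (ConsPropLib.isFinLocFreeOfRank_iso (H23.PullPush.structureModuleIsoPush (f.fiberToSpecResidueField y) hp ≪≫
        (Scheme.Modules.pushforward (f.fiberToSpecResidueField y)).mapIso τ.symm ≪≫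
        (asIso (CohBC.bc0 f (S.fromSpecResidueField y) (f.fiberToSpecResidueField y) (f.fiberι y) (f.fiber_fac y) L)).symm)).1 hone
    let pt : ↥(Spec (S.residueField y)) := IsLocalRing.closedPoint (S.residueField y)
    exact ((ConsPropLib.isFinLocFreeOfRank_iff.1 (hrank y hV)).2 pt).symm.trans ((ConsPropLib.isFinLocFreeOfRank_iff.1 h2).2 pt)
  subst hn
  -- the counit away from a closed set missing the fibre
  let c := (Scheme.Modules.pullbackPushforwardAdjunction f).counit.app L
  have hC : Coh.IsQCoh (cokernel c) :=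
    QCoh.isQCoh_cokernel (QCoh.isQCoh_pullback f (QCoh.isQCoh_pushforward f hq)) hq c
  have hCft : CohB1.IsFT (cokernel c) := RelPC17.isFT_of_epi' (cokernel.π c) (QCoh.isFT_of_isFP hfp)
  let K : Set X := (Fitt.sheafIdeal (cokernel c) 0).support
  have hKy : ∀ x, x ∈ K → f x ≠ y := by
    intro x hx hxy
    obtain ⟨a, ha⟩ : x ∈ Set.range (f.fiberι y) := by rw [Scheme.Hom.range_fiberι]; exact hxy
    haveI : IsIso ((Scheme.Modules.pullbackPushforwardAdjunction (f.fiberToSpecResidueField y)).counit.app
        ((Scheme.Modules.pullback (f.fiberι y)).obj L)) :=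
      (NatTrans.isIso_app_iff_of_iso _ τ).2
        (H23.PullPush.isIso_counit_structureModule (f.fiberToSpecResidueField y) hp)
    haveI : IsIso ((Scheme.Modules.pullback (f.fiberι y)).map c) := by
      rw [counit_baseChange f (S.fromSpecResidueField y) (f.fiberToSpecResidueField y) (f.fiberι y) (f.fiber_fac y) L]
      infer_instance
    have hz : IsZero ((Scheme.Modules.pullback (f.fiberι y)).obj (cokernel c)) :=
      IsZero.of_iso (isZero_cokernel_of_epi _) (PreservesCokernel.iso (Scheme.Modules.pullback (f.fiberι y)) c)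
    have hbot : ((Fitt.sheafIdeal (cokernel c) 0).comap (f.fiberι y)).support = ⊥ := by
      rw [FittX.sheafIdeal_comap _ hC hCft, Scheme.IdealSheafData.support_eq_bot_iff]
      exact sheafIdeal_zero_of_isZero (QCoh.isQCoh_pullback _ hC) (FittX.isFT_pullback _ hC hCft) hz
    rw [Scheme.IdealSheafData.support_comap, ← SetLike.coe_set_eq, TopologicalSpace.Closeds.coe_preimage,
      TopologicalSpace.Closeds.coe_bot, Set.eq_empty_iff_forall_notMem] at hbot
    exact hbot a (show f.fiberι y a ∈ _ from ha.symm ▸ hx)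
  let U : S.Opens := V ⊓ ⟨(f '' K)ᶜ, (f.isClosedMap _ (Fitt.sheafIdeal (cokernel c) 0).support.isClosed).isOpen_compl⟩
  refine ⟨U, ⟨hV, fun ⟨x, hx, hxy⟩ => hKy x hx hxy⟩, fun t ⟨htV, htK⟩ => ?_⟩
  let g := f.fiberι t
  let fT := f.fiberToSpecResidueField t
  haveI : Epi ((Scheme.Modules.pullback g).map c) := by
    refine Abelian.epi_of_cokernel_π_eq_zero _ (IsZero.eq_of_tgt ?_ _ _)
    refine IsZero.of_iso ?_ (PreservesCokernel.iso (Scheme.Modules.pullback g) c).symm
    refine isZero_of_sheafIdeal_zero (QCoh.isQCoh_pullback _ hC) (FittX.isFT_pullback _ hC hCft) ?_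
    rw [← FittX.sheafIdeal_comap _ hC hCft, ← Scheme.IdealSheafData.support_eq_bot_iff,
      Scheme.IdealSheafData.support_comap, ← SetLike.coe_set_eq, TopologicalSpace.Closeds.coe_preimage,
      TopologicalSpace.Closeds.coe_bot, Set.eq_empty_iff_forall_notMem]
    intro a ha
    have hat : f (g a) = t := by
      have : g a ∈ Set.range g := ⟨a, rfl⟩
      rwa [Scheme.Hom.range_fiberι] at this
    exact htK ⟨g a, ha, hat⟩
  let sq : (Scheme.Modules.pullback g).obj ((Scheme.Modules.pullback f).obj G) ≅
      (Scheme.Modules.pullback fT).obj ((Scheme.Modules.pullback (S.fromSpecResidueField t)).obj G) :=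
    sqIso f (S.fromSpecResidueField t) fT g (f.fiber_fac t) G
  have hsrc : FlatMod.IsFinLocFreeOfRank 1 ((Scheme.Modules.pullback g).obj ((Scheme.Modules.pullback f).obj G)) :=
    (ConsPropLib.isFinLocFreeOfRank_iso sq.symm).1 (TFOneX.isFinLocFreeOfRank_pullback fT (hrank t htV))
  haveI := isIso_of_epi_rank hsrc (TFOneX.isFinLocFreeOfRank_pullback g hL1) ((Scheme.Modules.pullback g).map c)
  haveI : Subsingleton ↥(Spec (S.residueField t)) := inferInstanceAs (Subsingleton (PrimeSpectrum (S.residueField t)))
  haveI : Nonempty ↥(Spec (S.residueField t)) := inferInstanceAs (Nonempty (PrimeSpectrum (S.residueField t)))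
  obtain ⟨σ⟩ := NefPull.triv_of_subsingleton (isInvertible_of_rank_one (hrank t htV))
  obtain ⟨u⟩ := PicClLib.nonempty_pullback_structureModule fT
  exact ⟨(asIso ((Scheme.Modules.pullback g).map c)).symm ≪≫ sq ≪≫ (Scheme.Modules.pullback fT).mapIso σ ≪≫ u⟩

end Groth.Agent.SeesawX
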