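import Groth.Agent.SeesawX.Unit
import Groth.Agent.S2393
import Groth.Agent.H23.RigidGamma
import Mathlib.AlgebraicGeometry.AlgClosed.Basic

/-!
# Constant functions on the fibres from the closed fibres
-/

set_option autoImplicit false
set_option linter.style.haveILetI false
set_option linter.unusedSectionVars false
set_option backward.isDefEq.respectTransparency false
set_option backward.isDefEq.respectTransparency.types false

universe u

open CategoryTheory CategoryTheory.Limits AlgebraicGeometry TopologicalSpace Opposite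

namespace Groth.Agent.SeesawX

open Groth.Agent

variable {X Y : Scheme.{u}}

/-- A proper connected reduced scheme over an algebraically closed field has constant functions. -/
theorem bijective_appTop_of_isAlgClosed {K : Type u} [Field K] [IsAlgClosed K] {V : Scheme.{u}}
    (v : V ⟶ Spec (CommRingCat.of K)) [IsProper v] [ConnectedSpace V] [IsReduced V] :
    Function.Bijective v.appTop := by
  let ψ : CommRingCat.of K ⟶ Γ(V, ⊤) := (Scheme.ΓSpecIso _).inv ≫ v.appTop
  have hψ : Function.Bijective ψ.hom := by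
    have : ψ.hom.IsIntegral := (RingHom.isIntegral_of_surjective _
      (ConcreteCategory.bijective_of_isIso (Scheme.ΓSpecIso (CommRingCat.of K)).inv).2).trans _ _
      (isIntegral_appTop_of_universallyClosed v)
    algebraize [ψ.hom]
    have : Nonempty (⊤ : V.Opens) := ⟨⟨(ConnectedSpace.toNonempty (α := V)).some, trivial⟩⟩
    exact ⟨ψ.hom.injective, H23.RigidGamma.surjective_of_isIntegral H23.RigidGamma.eq_zero_or_one_of_idem⟩
  have e : v.appTop = (Scheme.ΓSpecIso _).hom ≫ ψ := by simp [ψ]
  rw [e]
  exact hψ.comp (ConcreteCategory.bijective_of_isIso (Scheme.ΓSpecIso (CommRingCat.of K)).hom)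

variable (f : X ⟶ Y) [IsProper f] [Flat f] [LocallyOfFinitePresentation f] [IsLocallyNoetherian Y]

/-- Constant functions on a fibre propagate to the nearby fibres. -/
theorem exists_constFibres_nhd (y₀ : Y) (hy : Function.Bijective (f.fiberToSpecResidueField y₀).appTop) :
    ∃ U : Y.Opens, y₀ ∈ U ∧ ∀ y ∈ U, Function.Bijective (f.fiberToSpecResidueField y).appTop := by
  haveI : HasInjectiveResolutions X.Modules := KFlatLib.hasInjectiveResolutions_modules
  haveI := SpObjSS.enoughInjectives_of_hasInjectiveResolutions (C := X.Modules)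
  haveI := QCoh.preservesFiniteLimits_push f
  let u : Coh.structureModule Y ⟶ (Scheme.Modules.pushforward f).obj (Coh.structureModule X) :=
    SheafOfModules.unitToPushforwardObjUnit f.toRingCatSheafHom
  have hone : FlatMod.IsFinLocFreeOfRank 1 (Coh.structureModule X) := fun x =>
    ⟨⊤, trivial, ⟨(Scheme.Modules.restrictFunctorIsoPullback _).app _ ≪≫ unitIso _ ≪≫ (H23.DblAlg.freeOneIso _).symm⟩⟩
  have hinv : PicF.IsInvertible (Coh.structureModule X) := fun x =>
    ⟨⊤, trivial, ⟨(Scheme.Modules.restrictFunctorIsoPullback _).app _ ≪≫ unitIso _⟩⟩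
  have hfp := QCoh.isFP_of_isFinLocFree fun x => (hone x).elim fun U h => ⟨U, 1, h⟩
  have hfl : FlatMod.IsFlatOver f (Coh.structureModule X) := H23.Seesaw.isFlatOver_of_isInvertible f hinv
  have hq := QCoh.isQCoh_of_isFP hfp
  obtain ⟨V, -, hyV, hk, -⟩ := CohPullX.exists_kerBC_nhd_of_epi hfp hfl y₀ (epi_bc0_fibre f y₀ hy)
  have hy' : Function.Bijective (algebraMap (Y.residueField y₀) Γ(f.fiber y₀, ⊤)) :=
    hy.comp (ConcreteCategory.bijective_of_isIso (Scheme.ΓSpecIso (Y.residueField y₀)).inv)
  obtain ⟨U, hyU, hU⟩ := S2393.result f y₀ hy'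
  refine ⟨U ⊓ V, ⟨hyU, hyV⟩, fun y hy => ?_⟩
  let g := Y.fromSpecResidueField y
  let t : Spec (Y.residueField y) ⟶ (U : Scheme.{u}) := IsOpenImmersion.lift U.ι g (by
    rw [Scheme.range_fromSpecResidueField, Scheme.Opens.range_ι]
    exact Set.singleton_subset_iff.2 hy.1)
  haveI : IsIso ((Scheme.Modules.restrictFunctor U.ι).map u) :=
    Scheme.Modules.Hom.isIso_iff_isIso_app.2 fun T => (ConcreteCategory.isIso_iff_bijective _).2 (by
      haveI := hU (U.ι ''ᵁ T) (fun a ha => by obtain ⟨b, -, rfl⟩ := ha; exact b.2)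
      exact ConcreteCategory.bijective_of_isIso (f.app (U.ι ''ᵁ T)))
  haveI : IsIso ((Scheme.Modules.pullback U.ι).map u) :=
    (NatIso.isIso_map_iff (Scheme.Modules.restrictFunctorIsoPullback U.ι) u).1 inferInstance
  haveI : IsIso ((Scheme.Modules.pullback U.ι ⋙ Scheme.Modules.pullback t).map u) :=
    Functor.map_isIso (Scheme.Modules.pullback t) ((Scheme.Modules.pullback U.ι).map u)
  haveI : IsIso ((Scheme.Modules.pullback g).map u) :=
    (NatIso.isIso_map_iff (Scheme.Modules.pullbackComp t U.ι ≪≫
      Scheme.Modules.pullbackCongr (IsOpenImmersion.lift_fac _ _ _)) u).1 inferInstance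
  haveI : IsIso (CohBC.bc0 f g (f.fiberToSpecResidueField y) (f.fiberι y) (f.fiber_fac y) (Coh.structureModule X)) :=
    CohPullX.isIso_bc0_of_hasKerBC (IsPullback.of_hasPullback f g) hq fun x => ⟨V, by
      rw [Scheme.fromSpecResidueField_apply]; exact hy.2, hk⟩
  exact bijective_app_of_iso (f.fiberToSpecResidueField y)
    ((unitIso g).symm ≪≫ asIso ((Scheme.Modules.pullback g).map u) ≪≫
      asIso (CohBC.bc0 f g (f.fiberToSpecResidueField y) (f.fiberι y) (f.fiber_fac y) (Coh.structureModule X)) ≪≫
      (Scheme.Modules.pushforward (f.fiberToSpecResidueField y)).mapIso (unitIso (f.fiberι y))) ⊤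

/-- Over a variety over an algebraically closed field, connected reduced fibres have constant functions. -/
theorem constFibres_of_isAlgClosed {k : Type u} [Field k] [IsAlgClosed k] (g : Y ⟶ Spec (CommRingCat.of k))
    [LocallyOfFiniteType g] (hc : ∀ y : Y, IsClosed ({y} : Set Y) → ConnectedSpace ↥(f.fiber y))
    (hr : ∀ y : Y, IsClosed ({y} : Set Y) → IsReduced (f.fiber y)) :
    H23.RigidApply.ConstFibres f := by
  intro y
  haveI : JacobsonSpace Y := LocallyOfFiniteType.jacobsonSpace g
  obtain ⟨y₀, hy₀, hcl⟩ := nonempty_inter_closedPoints (Z := closure ({y} : Set Y)) ⟨y, subset_closure rfl⟩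
    isClosed_closure.isLocallyClosed
  haveI := hc y₀ hcl
  haveI := hr y₀ hcl
  haveI : IsProper (f.fiberToSpecResidueField y₀) :=
    MorphismProperty.of_isPullback (IsPullback.of_hasPullback f (Y.fromSpecResidueField y₀)) inferInstance
  haveI : IsAlgClosed (Y.residueField y₀) :=
    IsAlgClosed.of_ringEquiv k _ (residueFieldIsoBase g y₀ hcl).symm.commRingCatIsoToRingEquiv
  have h₀ : Function.Bijective (f.fiberToSpecResidueField y₀).appTop :=
    bijective_appTop_of_isAlgClosed (K := Y.residueField y₀) (f.fiberToSpecResidueField y₀)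
  obtain ⟨U, hU₀, hU⟩ := exists_constFibres_nhd f y₀ h₀
  refine hU y ?_
  obtain ⟨z, hzU, hz⟩ := mem_closure_iff.1 hy₀ U U.isOpen hU₀
  exact (Set.mem_singleton_iff.1 hz) ▸ hzU

end Groth.Agent.SeesawX
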