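import Groth.Agent.SeesawX.Jacobson
import Groth.Agent.S16759

/-!
# Modules trivial on the fibres over a reduced base
-/

set_option autoImplicit false
set_option linter.style.haveILetI false
set_option backward.isDefEq.respectTransparency false
set_option backward.isDefEq.respectTransparency.types false

universe u

open CategoryTheory CategoryTheory.Limits AlgebraicGeometry TopologicalSpace Opposite

namespace Groth.Agent.SeesawX

open Groth.Agent

/-- An invertible module trivial on the fibres comes from its pushforward, over a reduced base. -/
theorem pushforward_of_fibre_trivial {X Y : Scheme.{u}} (f : X ⟶ Y) [IsProper f] [Flat f]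
    [IsLocallyNoetherian Y] [IsReduced Y] (hc : H23.RigidApply.ConstFibres f) {E : X.Modules} (hE : PicF.IsInvertible E)
    (htriv : ∀ y : Y, Nonempty ((Scheme.Modules.pullback (f.fiberι y)).obj E ≅ Coh.structureModule (f.fiber y))) :
    PicF.IsInvertible ((Scheme.Modules.pushforward f).obj E) ∧
      IsIso ((Scheme.Modules.pullbackPushforwardAdjunction f).counit.app E) :=
  S16759.of_local f (fun W => bijective_app_baseChange f hc (IsPullback.of_horiz_isIso ⟨(Category.id_comp f).trans (Category.comp_id f).symm⟩ : IsPullback (𝟙 X) f f (𝟙 Y)) W) E
    (H23.SeesawGlobal.exists_frame_of_isReduced f hE (S16759.fieldH0 f hc)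
      fun y => (H23.SeesawGlobal.fieldTriv_iff_residueField y).2 (htriv y))

end Groth.Agent.SeesawX
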