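import Groth.Agent.SeesawX.Closed
import Groth.Agent.SeesawX.Glue
import Groth.Agent.QCoh.FlatBC
import Groth.Agent.AlgStLib.Noetherian

/-!
# The seesaw argument on a product over a field
-/

set_option autoImplicit false
set_option linter.style.haveILetI false
set_option linter.unusedSectionVars false
set_option backward.isDefEq.respectTransparency false
set_option backward.isDefEq.respectTransparency.types false
set_option maxHeartbeats 1000000

universe u

open CategoryTheory CategoryTheory.Limits AlgebraicGeometry TopologicalSpace Opposite TensorProduct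
open Groth.Agent.H23.PicMul

namespace Groth.Agent.SeesawX.Product

open Groth.Agent

variable {k : Type u} [Field k] {S T : Scheme.{u}} (s : S ⟶ Spec (CommRingCat.of k)) (t : T ⟶ Spec (CommRingCat.of k))
  [IsProper t] [GeometricallyIntegral t]

/-- The first projection. -/
noncomputable abbrev p : pullback s t ⟶ S := pullback.fst s t

/-- The second projection. -/
noncomputable abbrev q : pullback s t ⟶ T := pullback.snd s t

instance flat_of_field : Flat t :=
  haveI : Subsingleton ↥(Spec (CommRingCat.of k)) := inferInstanceAs (Subsingleton (PrimeSpectrum k))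
  inferInstance

theorem geometricallyIntegral_p : GeometricallyIntegral (p s t) :=
  MorphismProperty.pullback_fst (P := @GeometricallyIntegral) s t ‹_›

/-- The fibres of the product have no first cohomology. -/
theorem subsingleton_fibre_H1 (h1 : Subsingleton (Coh.HH T (Coh.structureModule T) 1)) (x : S)
    {N : (pullback s t).Modules}
    (e : (Scheme.Modules.pullback ((p s t).fiberι x)).obj N ≅ Coh.structureModule ((p s t).fiber x)) :
    Subsingleton (CohIII.fiberH (p s t) N x 1) := by
  have hsq : IsPullback ((p s t).fiberι x ≫ q s t) ((p s t).fiberToSpecResidueField x) t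
      (S.fromSpecResidueField x ≫ s) :=
    (IsPullback.of_hasPullback (p s t) (S.fromSpecResidueField x)).paste_horiz (IsPullback.of_hasPullback s t).flip
  obtain ⟨φ, hφ⟩ : ∃ φ : CommRingCat.of k ⟶ S.residueField x, Spec.map φ = S.fromSpecResidueField x ≫ s :=
    ⟨Spec.preimage _, Spec.map_preimage _⟩
  letI : Algebra k (S.residueField x) := φ.hom.toAlgebra
  rw [← hφ] at hsq
  haveI : CompactSpace T := QuasiCompact.compactSpace_of_compactSpace t
  haveI : QuasiSeparatedSpace T := quasiSeparatedSpace_of_quasiSeparated t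
  letI := QCoh.modHH (Coh.toGlobal t) (Coh.structureModule T) 1
  letI := QCoh.modHH (Coh.toGlobal ((p s t).fiberToSpecResidueField x))
    ((Scheme.Modules.pullback ((p s t).fiberι x ≫ q s t)).obj (Coh.structureModule T)) 1
  obtain ⟨b⟩ := QCoh.HH_flatBaseChange (A := k) (B := S.residueField x) (φ := (p s t).fiberι x ≫ q s t)
    (pA := t) (pB := (p s t).fiberToSpecResidueField x) hsq
    (M := Coh.structureModule T) (QCoh.isQCoh_of_isFinLocFree fun z =>
      (isFinLocFreeOfRank_one InvX.isInvertible_structureModule z).elim fun U h => ⟨U, 1, h⟩) 1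
  haveI : Subsingleton (S.residueField x ⊗[k] Coh.HH T (Coh.structureModule T) 1) := by
    refine subsingleton_of_forall_eq 0 fun z => ?_
    induction z using TensorProduct.induction_on with
    | zero => rfl
    | tmul a b => rw [Subsingleton.elim b 0, tmul_zero]
    | add a b ha hb => rw [ha, hb, add_zero]
  obtain ⟨u⟩ := PicClLib.nonempty_pullback_structureModule ((p s t).fiberι x ≫ q s t)
  exact QCoh.subsingleton_HH_of_iso (u ≪≫ e.symm) 1 b.toEquiv.symm.subsingleton

variable (σ : Spec (CommRingCat.of k) ⟶ S) (hσ : σ ≫ s = 𝟙 _)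

/-- The copy of `T` over the rational point. -/
noncomputable def sec : T ⟶ pullback s t :=
  pullback.lift (t ≫ σ) (𝟙 T) (by rw [Category.assoc, hσ, Category.comp_id, Category.id_comp])

theorem sec_p : sec s t σ hσ ≫ p s t = t ≫ σ := pullback.lift_fst _ _ _

theorem sec_q : sec s t σ hσ ≫ q s t = 𝟙 T := pullback.lift_snd _ _ _

theorem cl_sec_base {L : S.Modules} (hL : PicF.IsInvertible L) :
    pullHom (sec s t σ hσ) (pullHom (p s t) (PicF.cl L)) = 1 := by
  haveI : Subsingleton ↥(Spec (CommRingCat.of k)) := inferInstanceAs (Subsingleton (PrimeSpectrum k))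
  haveI : Nonempty ↥(Spec (CommRingCat.of k)) := inferInstanceAs (Nonempty (PrimeSpectrum k))
  obtain ⟨τ⟩ := NefPull.triv_of_subsingleton (PicClLib.isInvertible_pullback σ hL)
  obtain ⟨u⟩ := PicClLib.nonempty_pullback_structureModule t
  exact cl_eq_iff.2 ⟨(Scheme.Modules.pullbackComp _ _).app L ≪≫
    (Scheme.Modules.pullbackCongr (sec_p s t σ hσ)).app L ≪≫ ((Scheme.Modules.pullbackComp _ _).app L).symm ≪≫
    (Scheme.Modules.pullback t).mapIso τ ≪≫ u⟩

theorem cl_sec_q (M : T.Modules) : pullHom (sec s t σ hσ) (pullHom (q s t) (PicF.cl M)) = PicF.cl M :=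
  cl_eq_iff.2 ⟨(Scheme.Modules.pullbackComp _ _).app M ≪≫ (Scheme.Modules.pullbackCongr (sec_q s t σ hσ)).app M ≪≫
    (Scheme.Modules.pullbackId T).app M⟩

include hσ in
/-- Decomposition of invertible modules on the product. -/
theorem exists_decomp (h1 : Subsingleton (Coh.HH T (Coh.structureModule T) 1)) [ConnectedSpace S]
    {N : (pullback s t).Modules} (hN : PicF.IsInvertible N) :
    ∃ (L : S.Modules) (M : T.Modules), PicF.IsInvertible L ∧ PicF.IsInvertible M ∧
      Nonempty (N ≅ CohB1.tensorMod ((Scheme.Modules.pullback (p s t)).obj L) ((Scheme.Modules.pullback (q s t)).obj M)) := by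
  haveI : LocallyOfFinitePresentation t :=
    AlgStLib.locallyOfFinitePresentation_of_isLocallyNoetherian t inferInstance
  haveI : LocallyOfFinitePresentation (p s t) := MorphismProperty.pullback_fst (P := @LocallyOfFinitePresentation) s t ‹_›
  haveI := geometricallyIntegral_p s t
  let i := sec s t σ hσ
  let M := (Scheme.Modules.pullback i).obj N
  have hM : PicF.IsInvertible M := PicClLib.isInvertible_pullback i hN
  obtain ⟨⟨c, hcc⟩, hc⟩ := exists_inv (X := T) ⟨PicF.cl M, M, rfl, hM⟩
  obtain ⟨Mi, rfl, hMi⟩ := hcc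
  let N' := CohB1.tensorMod N ((Scheme.Modules.pullback (q s t)).obj Mi)
  have hN' : PicF.IsInvertible N' := isInvertible_tensor hN (PicClLib.isInvertible_pullback _ hMi)
  have hsecN : pullHom i (PicF.cl N') = 1 := by
    rw [show PicF.cl N' = PicF.cl N * pullHom (q s t) (PicF.cl Mi) from cl_tensor _ _, map_mul, cl_sec_q s t σ hσ Mi,
      mul_comm]
    exact hc
  have hcf : H23.RigidApply.ConstFibres (p s t) := H23.RigidApply.constFibres_of_geometricallyIntegral _
  let A : Set S := {x | Nonempty ((Scheme.Modules.pullback ((p s t).fiberι x)).obj N' ≅ Coh.structureModule ((p s t).fiber x))}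
  have hepi : ∀ x ∈ A, Epi (CohBC.bc0 (p s t) (S.fromSpecResidueField x) ((p s t).fiberToSpecResidueField x)
      ((p s t).fiberι x) ((p s t).fiber_fac x) N') := fun x hx =>
    epi_bc0_of_H1 (p s t) (QCoh.isFP_of_isFinLocFree fun z => ((isFinLocFreeOfRank_one hN') z).elim fun U h => ⟨U, 1, h⟩)
      (H23.Seesaw.isFlatOver_of_isInvertible _ hN') x (subsingleton_fibre_H1 s t h1 x hx.some)
  have hopen : IsOpen A := isOpen_iff_forall_mem_open.2 fun x hx => by
    obtain ⟨U, hxU, hU⟩ := exists_nhd_fibre_trivial (p s t) hcf hN' x hx.some (hepi x hx)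
    exact ⟨U, hU, U.isOpen, hxU⟩
  haveI : Nonempty ↥(Spec (CommRingCat.of k)) := inferInstanceAs (Nonempty (PrimeSpectrum k))
  let x₀ : S := σ (Classical.arbitrary _)
  have hx₀ : x₀ ∈ A := by
    haveI : IsImmersion (σ ≫ s) := by rw [hσ]; infer_instance
    haveI : IsImmersion σ := IsImmersion.of_comp σ s
    obtain ⟨l, hl⟩ := (mem_range_iff_factor σ x₀).1 ⟨_, rfl⟩
    let r := (p s t).fiberι x₀ ≫ q s t
    have hr : r ≫ i = (p s t).fiberι x₀ := by
      refine pullback.hom_ext ?_ ?_
      · show (r ≫ i) ≫ p s t = _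
        rw [Category.assoc, sec_p, Category.assoc, ← pullback.condition_assoc, (p s t).fiber_fac_assoc, ← hl,
          Category.assoc, reassoc_of% hσ]
        show _ = (p s t).fiberι x₀ ≫ p s t
        rw [(p s t).fiber_fac, ← hl]
      · show (r ≫ i) ≫ q s t = _
        rw [Category.assoc, sec_q, Category.comp_id]
    refine cl_eq_iff.1 ?_
    have := congrArg (pullHom r) hsecN
    rw [map_one] at this
    refine Eq.trans (cl_eq_iff.2 ⟨?_⟩) this
    exact (Scheme.Modules.pullbackCongr hr.symm).app N' ≪≫ ((Scheme.Modules.pullbackComp r i).app N').symm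
  have hA : A = Set.univ := IsClopen.eq_univ ⟨isClosed_fibre_trivial (p s t) hN', hopen⟩ ⟨x₀, hx₀⟩
  have htriv : ∀ x, x ∈ A := fun x => by rw [hA]; trivial
  obtain ⟨hG, hcounit⟩ := pushforward_of_epi (p s t) hcf hN' htriv (fun x => hepi x (htriv x))
  haveI := hcounit
  refine ⟨_, M, hG, hM, cl_eq_iff.1 ?_⟩
  rw [cl_tensor, show PicF.cl ((Scheme.Modules.pullback (p s t)).obj ((Scheme.Modules.pushforward (p s t)).obj N')) =
      PicF.cl N' from cl_eq_iff.2 ⟨asIso ((Scheme.Modules.pullbackPushforwardAdjunction (p s t)).counit.app N')⟩,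
    show PicF.cl N' = PicF.cl N * pullHom (q s t) (PicF.cl Mi) from cl_tensor _ _]
  show _ = _ * _ * pullHom (q s t) (PicF.cl M)
  rw [mul_assoc, ← map_mul, show PicF.cl Mi * PicF.cl M = 1 from hc, map_one, mul_one]

include hσ in
/-- Uniqueness of the decomposition. -/
theorem decomp_unique {L L' : S.Modules} {M M' : T.Modules} (hL : PicF.IsInvertible L) (hL' : PicF.IsInvertible L')
    (hM : PicF.IsInvertible M)
    (e : CohB1.tensorMod ((Scheme.Modules.pullback (p s t)).obj L) ((Scheme.Modules.pullback (q s t)).obj M) ≅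
      CohB1.tensorMod ((Scheme.Modules.pullback (p s t)).obj L') ((Scheme.Modules.pullback (q s t)).obj M')) :
    Nonempty (L ≅ L') ∧ Nonempty (M ≅ M') := by
  haveI : LocallyOfFinitePresentation t :=
    AlgStLib.locallyOfFinitePresentation_of_isLocallyNoetherian t inferInstance
  haveI : LocallyOfFinitePresentation (p s t) := MorphismProperty.pullback_fst (P := @LocallyOfFinitePresentation) s t ‹_›
  haveI := geometricallyIntegral_p s t
  have he := cl_eq_iff.2 ⟨e⟩
  rw [cl_tensor, cl_tensor] at he
  have he' : pullHom (p s t) (PicF.cl L) * pullHom (q s t) (PicF.cl M) =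
      pullHom (p s t) (PicF.cl L') * pullHom (q s t) (PicF.cl M') := he
  have hMM : PicF.cl M = PicF.cl M' := by
    have h := congrArg (pullHom (sec s t σ hσ)) he'
    rwa [map_mul, map_mul, cl_sec_base s t σ hσ hL, cl_sec_base s t σ hσ hL', cl_sec_q, cl_sec_q, one_mul, one_mul] at h
  refine ⟨?_, cl_eq_iff.1 hMM⟩
  rw [← hMM] at he'
  obtain ⟨e'⟩ := cl_eq_iff.1 ((isUnit_cl (PicClLib.isInvertible_pullback (q s t) hM)).mul_left_inj.1 he')
  have hcf : H23.RigidApply.ConstFibres (p s t) := H23.RigidApply.constFibres_of_geometricallyIntegral _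
  have hf : ∀ W : S.Opens, Function.Bijective ((p s t).app W) := fun W =>
    bijective_app_baseChange (p s t) hcf
      (IsPullback.of_horiz_isIso ⟨(Category.id_comp (p s t)).trans (Category.comp_id (p s t)).symm⟩ :
        IsPullback (𝟙 _) (p s t) (p s t) (𝟙 S)) W
  haveI := H23.PullPush.isIso_unit_of_isFinLocFree (p s t) hf L fun x => ((isFinLocFreeOfRank_one hL) x).elim fun U h => ⟨U, 1, h⟩
  haveI := H23.PullPush.isIso_unit_of_isFinLocFree (p s t) hf L' fun x => ((isFinLocFreeOfRank_one hL') x).elim fun U h => ⟨U, 1, h⟩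
  exact ⟨asIso ((Scheme.Modules.pullbackPushforwardAdjunction (p s t)).unit.app L) ≪≫
    (Scheme.Modules.pushforward (p s t)).mapIso e' ≪≫
    (asIso ((Scheme.Modules.pullbackPushforwardAdjunction (p s t)).unit.app L')).symm⟩

end Groth.Agent.SeesawX.Product
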