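import Groth.Agent.SeesawX.Closed
import Groth.Agent.QCoh.FlatBC
import Groth.Agent.GeomField.GlobalFunctions

/-!
# Descent of triviality of an invertible module along an extension of fields
-/

set_option autoImplicit false
set_option linter.style.haveILetI false
set_option linter.unusedSectionVars false
set_option backward.isDefEq.respectTransparency false
set_option backward.isDefEq.respectTransparency.types false
set_option maxHeartbeats 1000000

universe u

open CategoryTheory CategoryTheory.Limits AlgebraicGeometry TopologicalSpace Opposite TensorProduct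
open Groth.Agent.H23.PicMul

namespace Groth.Agent.SeesawX

open Groth.Agent

/-- An invertible module on an integral proper scheme over a field, trivial after an extension of the field, is trivial. -/
theorem triv_of_field_ext {K K' : Type u} [Field K] [Field K'] {V V' : Scheme.{u}}
    (v : V ⟶ Spec (CommRingCat.of K)) [IsProper v] [IsIntegral V] (v' : V' ⟶ Spec (CommRingCat.of K'))
    (φ : V' ⟶ V) [Nonempty V'] (a : Spec (CommRingCat.of K') ⟶ Spec (CommRingCat.of K)) (h : IsPullback φ v' v a)
    {N : V.Modules} (hN : PicF.IsInvertible N)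
    (e : (Scheme.Modules.pullback φ).obj N ≅ Coh.structureModule V') :
    Nonempty (N ≅ Coh.structureModule V) := by
  obtain ⟨ρ, rfl⟩ : ∃ ρ, Spec.map ρ = a := ⟨Spec.preimage a, Spec.map_preimage a⟩
  letI : Algebra K K' := ρ.hom.toAlgebra
  haveI : CompactSpace V := QuasiCompact.compactSpace_of_compactSpace v
  haveI : QuasiSeparatedSpace V := quasiSeparatedSpace_of_quasiSeparated v
  obtain ⟨⟨c, hcc⟩, hc⟩ := exists_inv (X := V) ⟨PicF.cl N, N, rfl, hN⟩
  obtain ⟨M, rfl, hM⟩ := hcc
  replace hc : PicF.cl N * PicF.cl M = 1 := (mul_comm _ _).trans hc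
  have e' : Nonempty ((Scheme.Modules.pullback φ).obj M ≅ Coh.structureModule V') := cl_eq_iff.1 (by
    have h1 : pullHom φ (PicF.cl N) = 1 := cl_eq_iff.2 ⟨e⟩
    have h2 := congrArg (pullHom φ) hc
    rw [map_mul, h1, one_mul, map_one] at h2
    exact h2)
  have hsec : ∀ {L : V.Modules}, PicF.IsInvertible L → Nonempty ((Scheme.Modules.pullback φ).obj L ≅ Coh.structureModule V') →
      ∃ s : Γ(L, ⊤), s ≠ 0 := by
    intro L hL ⟨eL⟩
    by_contra hcon
    push_neg at hcon
    haveI : Subsingleton Γ(L, ⊤) := ⟨fun a b => (hcon a).trans (hcon b).symm⟩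
    haveI h0 : Subsingleton (Coh.HH V L 0) := (subsingleton_sections_iff L).1 inferInstance
    letI := QCoh.modHH (Coh.toGlobal v) L 0
    letI := QCoh.modHH (Coh.toGlobal v') ((Scheme.Modules.pullback φ).obj L) 0
    obtain ⟨b⟩ := QCoh.HH_flatBaseChange (A := K) (B := K') (φ := φ) (pA := v) (pB := v') h
      (M := L) (QCoh.isQCoh_of_isFinLocFree fun z => (isFinLocFreeOfRank_one hL z).elim fun U h => ⟨U, 1, h⟩) 0
    haveI : Subsingleton (K' ⊗[K] Coh.HH V L 0) := by
      refine subsingleton_of_forall_eq 0 fun z => ?_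
      induction z using TensorProduct.induction_on with
      | zero => rfl
      | tmul a b => rw [Subsingleton.elim b 0, tmul_zero]
      | add a b ha hb => rw [ha, hb, add_zero]
    haveI : Subsingleton Γ((Scheme.Modules.pullback φ).obj L, ⊤) :=
      (subsingleton_sections_iff _).2 b.toEquiv.symm.subsingleton
    haveI : Subsingleton Γ(V', ⊤) :=
      ⟨fun a b => by
        have hb : Function.Bijective (eL.hom.app ⊤) :=
          (ConcreteCategory.isIso_iff_bijective _).1 (Scheme.Modules.Hom.isIso_iff_isIso_app.1 inferInstance ⊤)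
        obtain ⟨a', ha⟩ := hb.2 a
        obtain ⟨b', hb'⟩ := hb.2 b
        exact ha.symm.trans ((congrArg _ (Subsingleton.elim a' b')).trans hb')⟩
    haveI : Nontrivial Γ(V', ⊤) := by
      obtain ⟨x⟩ := (inferInstance : Nonempty V')
      haveI : Nonempty (⊤ : V'.Opens) := ⟨⟨x, trivial⟩⟩
      infer_instance
    exact false_of_nontrivial_of_subsingleton Γ(V', ⊤)
  obtain ⟨s, hs⟩ := hsec hN ⟨e⟩
  obtain ⟨t, ht⟩ := hsec hM e'
  letI : V.Over (Spec (CommRingCat.of K)) := ⟨v⟩
  haveI : UniversallyClosed (V ↘ Spec (CommRingCat.of K)) := inferInstanceAs (UniversallyClosed v)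
  haveI : ConnectedSpace V := inferInstance
  refine triv_of_pair hN hM (cl_eq_iff.1 ((cl_tensor N M).trans hc)).some (fun c hc0 => ?_) hs ht
  obtain ⟨d, hd⟩ := (GeomField.isField_globalFunctions K V).mul_inv_cancel hc0
  exact IsUnit.of_mul_eq_one d hd

end Groth.Agent.SeesawX
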