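import Groth.Agent.InvX.Frame
import Groth.Agent.PnCoh.TwistTriv
import Groth.Prelude.Def_CohB1
import Mathlib.RingTheory.MvPolynomial.Homogeneous
import Mathlib.Algebra.MvPolynomial.Division
import Mathlib.Algebra.MvPolynomial.Nilpotent
import Mathlib.RingTheory.Localization.FractionRing

/-!
# Projective space over a domain: sections inside the field of rational functions
-/

set_option autoImplicit false
set_option linter.style.haveILetI false
set_option backward.isDefEq.respectTransparency false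
set_option backward.isDefEq.respectTransparency.types false

universe u

open CategoryTheory AlgebraicGeometry TopologicalSpace Opposite HomogeneousLocalization

noncomputable section

namespace Groth.Agent.SeesawX.PicPn

open Groth.Agent Groth.Agent.AModX Groth.Agent.InvX

variable (n : ℕ) (R : Type u) [CommRing R] [IsDomain R]

/-- The polynomial ring. -/
abbrev A : Type u := MvPolynomial (Fin (n + 1)) R

local notation "𝒜" => CohB1.polyGrading n R

/-- The rational functions in the homogeneous coordinates. -/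
abbrev K : Type u := FractionRing (A n R)

/-- The generic point. -/
def gen : ProjectiveSpectrum 𝒜 where
  asHomogeneousIdeal := ⊥
  isPrime := by rw [HomogeneousIdeal.toIdeal_bot]; exact Ideal.isPrime_bot
  not_irrelevant_le h := by
    have hm : (MvPolynomial.X 0 : A n R) ∈ HomogeneousIdeal.irrelevant 𝒜 :=
      HomogeneousIdeal.mem_irrelevant_of_mem 𝒜 Nat.one_pos (MvPolynomial.isHomogeneous_X R 0)
    exact MvPolynomial.X_ne_zero 0 ((Ideal.mem_bot).1 (h hm))

variable {n R}

theorem gen_mem {W : (Proj 𝒜).Opens} {x : Proj 𝒜} (hx : x ∈ W) : (gen n R : Proj 𝒜) ∈ W := by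
  refine Specializes.mem_open ?_ W.isOpen hx
  exact specializes_iff_mem_closure.2 ((ProjectiveSpectrum.le_iff_mem_closure 𝒜 (gen n R) (x : ProjectiveSpectrum 𝒜)).1 (show (⊥ : HomogeneousIdeal 𝒜) ≤ _ from bot_le))

theorem ne_zero_of_notMem {s : A n R} (hs : s ∉ (gen n R).asHomogeneousIdeal) : s ≠ 0 :=
  fun h => hs (h ▸ zero_mem _)

variable (n R) in
/-- The stalk at the generic point, inside the rational functions. -/
def toFrac : Twist.Loc 𝒜 (gen n R) →+* K n R :=
  IsLocalization.lift (M := (gen n R).asHomogeneousIdeal.toIdeal.primeCompl) (g := algebraMap (A n R) (K n R))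
    fun s => (map_ne_zero_iff _ (IsFractionRing.injective (A n R) (K n R))).2 (ne_zero_of_notMem s.2) |>.isUnit

theorem toFrac_mk (a s : A n R) (hs : s ∉ (gen n R).asHomogeneousIdeal) :
    toFrac n R (Localization.mk a ⟨s, hs⟩) = algebraMap _ _ a / algebraMap _ _ s := by
  rw [Localization.mk_eq_mk', toFrac, IsLocalization.lift_mk'_spec, mul_div_cancel₀]
  exact (map_ne_zero_iff _ (IsFractionRing.injective (A n R) (K n R))).2 (ne_zero_of_notMem hs)

theorem eq_zero_of_toFrac {a s : A n R} {hs : s ∉ (gen n R).asHomogeneousIdeal}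
    (h : toFrac n R (Localization.mk a ⟨s, hs⟩) = 0) : a = 0 := by
  rw [toFrac_mk, div_eq_zero_iff] at h
  refine h.elim (fun h => IsFractionRing.injective (A n R) (K n R) (h.trans (map_zero _).symm)) fun h => ?_
  exact absurd (IsFractionRing.injective (A n R) (K n R) (h.trans (map_zero _).symm)) (ne_zero_of_notMem hs)

/-- The value of a function at the generic point. -/
def ev {W : (Proj 𝒜).Opens} (h : (gen n R : Proj 𝒜) ∈ W) : Γ(Proj 𝒜, W) →+* K n R where
  toFun c := toFrac n R ((show Twist.O (op W : (Opens (ProjectiveSpectrum.top 𝒜))ᵒᵖ) from c).1 ⟨_, h⟩).val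
  map_one' := (congrArg (toFrac n R) (val_one (x := (gen n R).asHomogeneousIdeal.toIdeal.primeCompl))).trans (map_one _)
  map_mul' a b := (congrArg (toFrac n R) (val_mul _ _)).trans (map_mul _ _ _)
  map_zero' := (congrArg (toFrac n R) (val_zero (x := (gen n R).asHomogeneousIdeal.toIdeal.primeCompl))).trans (map_zero _)
  map_add' a b := (congrArg (toFrac n R) (val_add _ _)).trans (map_add _ _ _)

theorem ev_res {W V : (Proj 𝒜).Opens} (i : V ≤ W) (hV : (gen n R : Proj 𝒜) ∈ V) (c : Γ(Proj 𝒜, W)) :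
    ev hV (resR i c) = ev (i hV) c := rfl

theorem ev_injective {W : (Proj 𝒜).Opens} (h : (gen n R : Proj 𝒜) ∈ W) : Function.Injective (ev h) := by
  refine (injective_iff_map_eq_zero _).2 fun c hc => ?_
  let c' : Twist.O (op W : (Opens (ProjectiveSpectrum.top 𝒜))ᵒᵖ) := c
  show c' = 0
  refine Subtype.ext (funext fun x => val_injective _ ?_)
  obtain ⟨V, hxV, iV, d, ⟨a, ha⟩, ⟨s, hs⟩, nin, w⟩ := c'.2 x
  have hg := gen_mem hxV
  have e1 := w ⟨x.1, hxV⟩
  have e2 := w ⟨_, hg⟩
  dsimp only at e1 e2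
  have h0 : toFrac n R ((c'.1 (iV ⟨_, hg⟩)).val) = 0 := hc
  rw [e2, val_mk] at h0
  obtain rfl := eq_zero_of_toFrac h0
  refine (congrArg HomogeneousLocalization.val e1).trans ?_
  rw [val_mk, Localization.mk_zero]
  exact val_zero.symm

/-- The value of a section of a twisting sheaf at the generic point. -/
def evT {d : ℤ} {W : (Proj 𝒜).Opens} (h : (gen n R : Proj 𝒜) ∈ W)
    (s : Γ(Twist.twist 𝒜 d, W)) : K n R :=
  toFrac n R ((show Twist.sectN d (op W : (Opens (ProjectiveSpectrum.top 𝒜))ᵒᵖ) from s).1 ⟨_, h⟩).1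

theorem evT_smul {d : ℤ} {W : (Proj 𝒜).Opens} (h : (gen n R : Proj 𝒜) ∈ W) (c : Γ(Proj 𝒜, W))
    (s : Γ(Twist.twist 𝒜 d, W)) : evT h (c • s) = ev h c * evT h s :=
  (congrArg (toFrac n R) (Twist.coe_smul_val d (gen n R) _ _)).trans (map_mul _ _ _)

theorem evT_res {d : ℤ} {W V : (Proj 𝒜).Opens} (i : V ≤ W) (hV : (gen n R : Proj 𝒜) ∈ V)
    (s : Γ(Twist.twist 𝒜 d, W)) : evT hV (res (Twist.twist 𝒜 d) i s) = evT (i hV) s := rfl

/-! ### Laurent monomials -/

theorem algX_ne_zero (i : Fin (n + 1)) : algebraMap (A n R) (K n R) (MvPolynomial.X i) ≠ 0 :=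
  (map_ne_zero_iff _ (IsFractionRing.injective (A n R) (K n R))).2 (MvPolynomial.X_ne_zero i)

/-- A Laurent monomial. -/
def mon (u : R) (e : Fin (n + 1) → ℤ) : K n R :=
  algebraMap (A n R) (K n R) (MvPolynomial.C u) * ∏ i, algebraMap (A n R) (K n R) (MvPolynomial.X i) ^ e i

theorem mon_mul (u v : R) (e f : Fin (n + 1) → ℤ) : mon u e * mon v f = mon (u * v) (e + f) := by
  have h : ∀ i, algebraMap (A n R) (K n R) (MvPolynomial.X i) ^ ((e + f) i) =
      algebraMap (A n R) (K n R) (MvPolynomial.X i) ^ e i * algebraMap (A n R) (K n R) (MvPolynomial.X i) ^ f i :=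
    fun i => zpow_add₀ (G₀ := K n R) (algX_ne_zero i) _ _
  simp only [mon, map_mul, h, Finset.prod_mul_distrib]
  ring

theorem mon_zero_one : (mon 1 0 : K n R) = 1 := by
  simp [mon]

theorem mon_single (i : Fin (n + 1)) (r : ℤ) :
    (mon 1 (Pi.single i r) : K n R) = algebraMap (A n R) (K n R) (MvPolynomial.X i) ^ r := by
  rw [mon, map_one, map_one, one_mul, Finset.prod_eq_single i (fun j _ hj => by simp [hj]) (by simp)]
  simp

theorem mon_inj {u v : R} {e f : Fin (n + 1) → ℤ} (hu : u ≠ 0) (h : (mon u e : K n R) = mon v f) :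
    e = f := by
  let N : Fin (n + 1) → ℕ := fun i => (e i).natAbs + (f i).natAbs
  have key : ∀ (w : R) (g : Fin (n + 1) → ℤ), (∀ i, 0 ≤ g i + N i) →
      mon w g * (mon 1 fun i => (N i : ℤ)) =
        algebraMap (A n R) (K n R) (MvPolynomial.monomial (Finsupp.equivFunOnFinite.symm fun i => (g i + N i).toNat) w) := by
    intro w g hg
    rw [mon_mul, mul_one, mon, MvPolynomial.monomial_eq, map_mul, Finsupp.prod_fintype _ _ (fun i => pow_zero _), map_prod]
    refine congrArg (_ * ·) (Finset.prod_congr rfl fun i _ => ?_)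
    rw [map_pow, Finsupp.coe_equivFunOnFinite_symm, ← zpow_natCast, Int.toNat_of_nonneg (hg i)]
    rfl
  have he : ∀ i, 0 ≤ e i + N i := fun i => by simp only [N]; omega
  have hf : ∀ i, 0 ≤ f i + N i := fun i => by simp only [N]; omega
  have h' := congrArg (· * (mon 1 fun i => (N i : ℤ))) h
  simp only [key u e he, key v f hf] at h'
  rcases (MvPolynomial.monomial_eq_monomial_iff _ _ _ _).1 (IsFractionRing.injective (A n R) (K n R) h') with ⟨h1, -⟩ | ⟨h1, -⟩
  · funext i
    have h2 := congr_fun (Finsupp.equivFunOnFinite.symm.injective h1) i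
    have := he i; have := hf i
    omega
  · exact absurd h1 hu

/-- Divisors of monomials in two variables. -/
theorem dvd_pow_mul_pow (i j : Fin (n + 1)) : ∀ (p q : ℕ) {a : A n R},
    a ∣ MvPolynomial.X i ^ p * MvPolynomial.X j ^ q →
      ∃ (p' q' : ℕ), Associated a (MvPolynomial.X i ^ p' * MvPolynomial.X j ^ q') := by
  intro p
  induction p with
  | zero =>
    intro q a h
    rw [pow_zero, one_mul] at h
    obtain ⟨q', -, hq'⟩ := (dvd_prime_pow MvPolynomial.X_prime q).1 h
    exact ⟨0, q', by rwa [pow_zero, one_mul]⟩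
  | succ p ih =>
    intro q a ⟨b, hb⟩
    have hXi : Prime (MvPolynomial.X i : A n R) := MvPolynomial.X_prime
    rcases hXi.dvd_or_dvd (show MvPolynomial.X i ∣ a * b from hb ▸ (dvd_pow_self _ p.succ_ne_zero).mul_right _) with
      ⟨a', rfl⟩ | ⟨b', rfl⟩
    · obtain ⟨p', q', h'⟩ := ih q (a := a') ⟨b, mul_left_cancel₀ hXi.ne_zero (by rw [← mul_assoc _ a' b, ← hb, pow_succ]; ring)⟩
      exact ⟨p' + 1, q', by
        rw [show (MvPolynomial.X i : A n R) ^ (p' + 1) * MvPolynomial.X j ^ q' =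
          MvPolynomial.X i * (MvPolynomial.X i ^ p' * MvPolynomial.X j ^ q') by ring]
        exact h'.mul_left _⟩
    · exact ih q ⟨b', mul_left_cancel₀ hXi.ne_zero (by
        rw [show MvPolynomial.X i * (a * b') = a * (MvPolynomial.X i * b') by ring, ← hb]; ring)⟩

theorem X_mem_one (j : Fin (n + 1)) : (MvPolynomial.X j : A n R) ∈ 𝒜 1 := MvPolynomial.isHomogeneous_X R j

theorem gen_mem_basicOpen {f : A n R} (hf : f ≠ 0) : (gen n R : Proj 𝒜) ∈ Proj.basicOpen 𝒜 f :=
  fun h => hf (Ideal.mem_bot.1 h)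

/-- The value of a unit on the overlap of two charts is a Laurent monomial. -/
theorem ev_unit {i j : Fin (n + 1)} {c : Γ(Proj 𝒜, Proj.basicOpen 𝒜 (MvPolynomial.X i) ⊓ Proj.basicOpen 𝒜 (MvPolynomial.X j))}
    (hc : IsUnit c) (h : (gen n R : Proj 𝒜) ∈ Proj.basicOpen 𝒜 (MvPolynomial.X i) ⊓ Proj.basicOpen 𝒜 (MvPolynomial.X j)) :
    ∃ (u : R) (r : ℤ), IsUnit u ∧ ev h c = mon u (Pi.single i r + Pi.single j (-r)) := by
  let f : A n R := MvPolynomial.X i * MvPolynomial.X j
  have hf : f ∈ 𝒜 2 := SetLike.mul_mem_graded (X_mem_one i) (X_mem_one j)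
  have hf0 : f ≠ 0 := mul_ne_zero (MvPolynomial.X_ne_zero i) (MvPolynomial.X_ne_zero j)
  have hO : Proj.basicOpen 𝒜 f = Proj.basicOpen 𝒜 (MvPolynomial.X i) ⊓ Proj.basicOpen 𝒜 (MvPolynomial.X j) :=
    Proj.basicOpen_mul 𝒜 _ _
  have hbij : Function.Bijective (Proj.awayToSection 𝒜 f).hom :=
    (ConcreteCategory.isIso_iff_bijective (Proj.basicOpenIsoAway 𝒜 f hf (by omega)).hom).1 inferInstance
  have key : ∀ y : Γ(Proj 𝒜, Proj.basicOpen 𝒜 f), ∃ (N : ℕ) (a : A n R), a.IsHomogeneous (N * 2) ∧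
      ev (gen_mem_basicOpen hf0) y = algebraMap _ _ a / algebraMap _ _ (f ^ N) := by
    intro y
    obtain ⟨z, rfl⟩ := hbij.2 y
    obtain ⟨N, a, ha, rfl⟩ := Away.mk_surjective 𝒜 hf z
    refine ⟨N, a, by simpa using ha, ?_⟩
    show toFrac n R _ = _
    erw [ProjectiveSpectrum.Proj.awayToSection_apply]
    rw [Away.val_mk, Localization.mk_eq_mk', IsLocalization.map_mk', ← Localization.mk_eq_mk']
    exact toFrac_mk _ _ _
  obtain ⟨c', hc'⟩ := hc.exists_right_inv
  let y := resR hO.le c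
  let y' := resR hO.le c'
  obtain ⟨N, a, ha, hy⟩ := key y
  obtain ⟨N', a', -, hy'⟩ := key y'
  have hfK : ∀ m : ℕ, algebraMap (A n R) (K n R) (f ^ m) ≠ 0 := fun m =>
    (map_ne_zero_iff _ (IsFractionRing.injective (A n R) (K n R))).2 (pow_ne_zero _ hf0)
  have h1 : a * a' = f ^ N * f ^ N' := by
    have h2 : ev (gen_mem_basicOpen hf0) y * ev (gen_mem_basicOpen hf0) y' = 1 := by
      rw [← map_mul, ← map_mul, hc', map_one, map_one]
    rw [hy, hy', div_mul_div_comm, div_eq_one_iff_eq (mul_ne_zero (hfK N) (hfK N')), ← map_mul, ← map_mul] at h2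
    exact IsFractionRing.injective (A n R) (K n R) h2
  obtain ⟨p, q, ⟨v, hv⟩⟩ := dvd_pow_mul_pow i j (N + N') (N + N') (a := a) ⟨a', by rw [h1, ← pow_add, mul_pow]⟩
  obtain ⟨u, hu, huv⟩ := MvPolynomial.isUnit_iff_eq_C_of_isReduced.1 (v⁻¹).isUnit
  have hau : a = MvPolynomial.C u * (MvPolynomial.X i ^ p * MvPolynomial.X j ^ q) := by
    rw [← hv, ← huv, mul_comm a, Units.inv_mul_cancel_left]
  have hpq : p + q = N * 2 := by
    have hh : (MvPolynomial.C u * (MvPolynomial.X i ^ p * MvPolynomial.X j ^ q) : A n R).IsHomogeneous (p + q) :=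
      by simpa using (((MvPolynomial.isHomogeneous_X R i).pow p).mul ((MvPolynomial.isHomogeneous_X R j).pow q)).C_mul u
    refine hh.inj_right (hau ▸ ha) ?_
    rw [← hau]
    intro h0
    rw [h0, zero_mul] at h1
    exact mul_ne_zero (pow_ne_zero N hf0) (pow_ne_zero N' hf0) h1.symm
  refine ⟨u, (p : ℤ) - N, hu, ?_⟩
  have hev : ev h c = ev (gen_mem_basicOpen hf0) y := (ev_res hO.le (gen_mem_basicOpen hf0) c).symm
  rw [hev, hy, hau, div_eq_iff (hfK N), map_mul, map_mul, map_pow, map_pow, map_pow,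
    show (mon u (Pi.single i ((p : ℤ) - N) + Pi.single j (-((p : ℤ) - N))) : K n R) =
      algebraMap _ _ (MvPolynomial.C u) * mon 1 (Pi.single i ((p : ℤ) - N)) * mon 1 (Pi.single j (-((p : ℤ) - N))) from by
        rw [show algebraMap (A n R) (K n R) (MvPolynomial.C u) = mon u 0 by simp [mon], mon_mul, mon_mul, mul_one, mul_one, zero_add],
    mon_single, mon_single, map_mul, mul_pow]
  have hX : ∀ (l : Fin (n + 1)) (z w : ℤ), algebraMap (A n R) (K n R) (MvPolynomial.X l) ^ z *
      algebraMap (A n R) (K n R) (MvPolynomial.X l) ^ w = algebraMap (A n R) (K n R) (MvPolynomial.X l) ^ (z + w) :=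
    fun l z w => (zpow_add₀ (algX_ne_zero l) z w).symm
  rw [← zpow_natCast, ← zpow_natCast, ← zpow_natCast, ← zpow_natCast, mul_assoc]
  rw [mul_assoc]
  refine congrArg (algebraMap (A n R) (K n R) (MvPolynomial.C u) * ·) ?_
  rw [← mul_assoc (algebraMap (A n R) (K n R) (MvPolynomial.X i) ^ ((p : ℤ) - N)), mul_mul_mul_comm, hX, hX]
  congr 2 <;> omega

end Groth.Agent.SeesawX.PicPn
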